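import Cfsg.Agent.Lib.Transfer.Product.Split.Basic

/-!
# Strong closure of a dihedral factor from the classes of its involutions
-/

set_option linter.unusedSectionVars false
set_option linter.style.haveILetI false

namespace Cfsg.Agent.ProdFus.Split

open Cfsg

universe u

variable {G : Type u} [Group G] [Finite G]
variable {P : Sylow 2 G} {A B R : Subgroup G} {r s a : G}

/-- The conjugates of the involutions of a subgroup stay in it. -/
def InvolClosed (P : Sylow 2 G) (A : Subgroup G) : Prop :=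
  ∀ x ∈ A, orderOf x = 2 → ∀ g : G, g * x * g⁻¹ ∈ (P : Subgroup G) → g * x * g⁻¹ ∈ A

/-- An element moving a generated, involution-closed subgroup into the Sylow subgroup. -/
theorem conj_mem_of_closed (hA : InvolClosed P A)
    (gA : A ≤ Subgroup.closure {b | b ∈ A ∧ orderOf b = 2}) {g : G}
    (hg : ∀ y ∈ A, g * y * g⁻¹ ∈ (P : Subgroup G)) {x : G} (hx : x ∈ A) : g * x * g⁻¹ ∈ A := by
  have hle : A ≤ A.comap (MulAut.conj g).toMonoidHom := by
    refine gA.trans ((Subgroup.closure_le _).2 fun b hb => ?_)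
    exact hA b hb.1 hb.2 g (hg b hb.1)
  exact hle hx

namespace Big

variable (h : Big P A B R r s a)
include h

theorem pow_form (hA : InvolClosed P A) {x u v g : G} (hx : x ∈ R) (hx2 : x * x ≠ 1)
    (hu : u ∈ A) (hv : v ∈ B) (e : g * x * g⁻¹ = u * v) :
    u ∈ R ∧ ∃ k : ℕ, orderOf x = 2 ^ (k + 2) ∧ orderOf u = 2 ^ (k + 2) ∧
      v ^ (2 ^ (k + 1)) = 1 := by
  haveI : Fact (Nat.Prime 2) := ⟨Nat.prime_two⟩
  obtain ⟨k, hk⟩ := IsPGroup.iff_orderOf.1 P.isPGroup' ⟨x, h.pair.leA (h.dih.le hx)⟩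
  rw [Subgroup.orderOf_mk] at hk
  have hx1 : x ≠ 1 := fun e => hx2 (by rw [e, mul_one])
  obtain ⟨k, rfl⟩ : ∃ i, k = i + 2 := by
    rcases k with _ | _ | i
    · rw [pow_zero, orderOf_eq_one_iff] at hk; exact absurd hk hx1
    · exact absurd (mul_self_two (x := x) (by simpa using hk)) hx2
    · exact ⟨i, rfl⟩
  have hz2 : orderOf (x ^ (2 ^ (k + 1))) = 2 := by
    have := orderOf_pow_two_pow (x := x) (i := k + 1) (j := 1) (by rw [hk])
    simpa using this
  have himg : g * x ^ (2 ^ (k + 1)) * g⁻¹ = u ^ (2 ^ (k + 1)) * v ^ (2 ^ (k + 1)) := by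
    rw [← conj_pow, e, h.pair.pow hu hv]
  have hmem : g * x ^ (2 ^ (k + 1)) * g⁻¹ ∈ A := hA _ (pow_mem (h.dih.le hx) _) hz2 g
    (by rw [himg]; exact h.pair.mul_mem' (pow_mem hu _) (pow_mem hv _))
  have hsp := h.pair.uniq hmem (pow_mem hu _) (one_mem _) (pow_mem hv _)
    (by rw [mul_one]; exact himg)
  have hne : u ^ (2 ^ (k + 1)) ≠ 1 := by
    rw [← hsp.1]
    intro e1
    exact Invol.ne_one_of_orderOf_two hz2 (conj_eq_one_iff.1 e1)
  have htot : u ^ (2 ^ (k + 2)) = 1 := by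
    have h1 : (g * x * g⁻¹) ^ (2 ^ (k + 2)) = 1 := by
      rw [conj_pow, ← hk, pow_orderOf_eq_one, mul_one, mul_inv_cancel]
    rw [e, h.pair.pow hu hv] at h1
    exact ((h.pair.eq_one_iff (pow_mem hu _) (pow_mem hv _)).1 h1).1
  have huo : orderOf u = 2 ^ (k + 2) := orderOf_eq_prime_pow hne htot
  refine ⟨h.dih.mem_of_sq_ne hu fun e2 => ?_, k, hk, huo, hsp.2.symm⟩
  have := Nat.le_of_dvd two_pos
    (orderOf_dvd_of_pow_eq_one (x := u) (n := 2) (by rw [pow_two]; exact e2))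
  have : 4 ≤ 2 ^ (k + 2) := by rw [pow_add]; exact Nat.le_mul_of_pos_left 4 (pow_pos two_pos k)
  omega

theorem mem_M_of_commute {u v y : G} (hu : u ∈ R) (hu2 : u * u ≠ 1) (hv : v ∈ B)
    (hy : y ∈ (P : Subgroup G)) (hc : Commute y (u * v)) : y ∈ R ⊔ B := by
  obtain ⟨α, hα, β, hβ, rfl⟩ := h.pair.split hy
  refine (h.mem_M_iff hα hβ).2 (by_contra fun hR => hu2 ?_)
  exact h.sq_of_commute hα hR hu ((h.pair.commute_iff hα hβ (h.dih.le hu) hv).1 hc).1

/-- An element of order at least four of the cyclic subgroup is not twisted by a central element. -/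
theorem twist_eq_one (hA : InvolClosed P A)
    (hnorm : ∀ n : G, (∀ y ∈ B, n * y * n⁻¹ ∈ (P : Subgroup G)) → ∀ y ∈ B, n * y * n⁻¹ ∈ B)
    (hfix : ∀ n : G, (∀ y ∈ R ⊔ B, n * y * n⁻¹ ∈ R ⊔ B) → (∀ y ∈ B, n * y * n⁻¹ ∈ B) →
      n * r * n⁻¹ ∈ R)
    {x u z g : G} (hx : x ∈ R) (hx2 : x * x ≠ 1) (hu : u ∈ R) (hu2 : u * u ≠ 1) (hz : z ∈ B)
    (hzc : ∀ y ∈ B, Commute y z) (e : g * x * g⁻¹ = u * z) : z = 1 := by
  classical
  haveI : Fact (Nat.Prime 2) := ⟨Nat.prime_two⟩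
  set Q := R ⊔ B with hQ
  set C := Subgroup.centralizer ({u * z} : Set G) with hC
  have hQP : Q ≤ (P : Subgroup G) := sup_le (h.dih.le.trans h.pair.leA) h.pair.leB
  have hQc : ∀ y ∈ Q, ∀ {u' z' : G}, u' ∈ R → z' ∈ B → (∀ w ∈ B, Commute w z') →
      Commute y (u' * z') := by
    intro y hy u' z' hu' hz' hz'c
    obtain ⟨α, hα, β, hβ, rfl⟩ := h.pair.mem_sup h.dih.le hy
    exact (h.pair.commute_iff (h.dih.le hα) hβ (h.dih.le hu') hz').2 ⟨h.R_comm hα hu', hz'c β hβ⟩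
  have hQC : Q ≤ C := fun y hy =>
    Subgroup.mem_centralizer_singleton_iff.2 (hQc y hy hu hz hzc).eq
  have hQp : IsPGroup 2 (Q.subgroupOf C) :=
    (P.isPGroup'.to_le hQP).comap_of_injective C.subtype Subtype.val_injective
  obtain ⟨R₁, hR₁⟩ := hQp.exists_le_sylow
  obtain ⟨d, hd⟩ := Invol.exists_conj_subset_sylow (R₁.isPGroup'.map C.subtype) P
  have hmax : ∀ y : C, y ∈ (R₁ : Subgroup C) → d * (y : G) * d⁻¹ ∈ Q := by
    have hxy : (d * g) * x * (d * g)⁻¹ ∈ (P : Subgroup G) := by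
      have huC : u * z ∈ C := Subgroup.mem_centralizer_singleton_iff.2 rfl
      have huR : (⟨u * z, huC⟩ : C) ∈ (R₁ : Subgroup C) := hR₁ (Subgroup.mem_subgroupOf.2
        (Subgroup.mul_mem_sup hu hz))
      have := hd _ (Subgroup.mem_map_of_mem C.subtype huR)
      simp only [Subgroup.coe_subtype] at this
      rw [show (d * g) * x * (d * g)⁻¹ = d * (g * x * g⁻¹) * d⁻¹ by group, e]
      exact this
    obtain ⟨α, hα, β, hβ, e'⟩ := h.pair.split hxy
    obtain ⟨hαR, k, -, hαo, -⟩ := h.pow_form hA hx hx2 hα hβ e'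
    have hα2 : α * α ≠ 1 := fun e2 => by
      have := Nat.le_of_dvd two_pos
        (orderOf_dvd_of_pow_eq_one (x := α) (n := 2) (by rw [pow_two]; exact e2))
      have : 4 ≤ 2 ^ (k + 2) := by rw [pow_add]; exact Nat.le_mul_of_pos_left 4 (pow_pos two_pos k)
      omega
    intro y hy
    refine h.mem_M_of_commute hαR hα2 hβ (hd _ (Subgroup.mem_map_of_mem C.subtype hy)) ?_
    have h1 : Commute (y : G) (u * z) := Subgroup.mem_centralizer_singleton_iff.1 y.2
    rw [← e', show (d * g) * x * (d * g)⁻¹ = d * (g * x * g⁻¹) * d⁻¹ by group, e]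
    exact commute_conj d h1
  have hR₁eq : Q.subgroupOf C = (R₁ : Subgroup C) := by
    refine Subgroup.eq_of_le_of_card_ge hR₁ ?_
    rw [Nat.card_congr (Subgroup.subgroupOfEquivOfLe hQC).toEquiv]
    refine Nat.card_le_card_of_injective
      (fun y : (R₁ : Subgroup C) => (⟨d * ((y : C) : G) * d⁻¹, hmax _ y.2⟩ : Q)) fun y y' hyy' => ?_
    have := congrArg Subtype.val hyy'
    exact Subtype.ext (Subtype.ext (mul_left_cancel (mul_right_cancel this)))
  have hgC : Q.map (MulAut.conj g).toMonoidHom ≤ C := by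
    rintro _ ⟨y, hy, rfl⟩
    refine Subgroup.mem_centralizer_singleton_iff.2 ?_
    have h1 := hQc y hy hx (one_mem B) fun w _ => Commute.one_right w
    rw [mul_one] at h1
    have := commute_conj g h1
    rw [e] at this
    simpa using this.eq
  obtain ⟨c, hc⟩ := Invol.exists_conj_subset_sylow
    (((P.isPGroup'.to_le hQP).map (MulAut.conj g).toMonoidHom).comap_of_injective C.subtype
      Subtype.val_injective) R₁
  set n : G := (c : G) * g with hn
  have hnQ : ∀ y ∈ Q, n * y * n⁻¹ ∈ Q := by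
    intro y hy
    have hy' : (⟨g * y * g⁻¹, hgC ⟨y, hy, by simp⟩⟩ : C) ∈
        (Q.map (MulAut.conj g).toMonoidHom).subgroupOf C :=
      Subgroup.mem_subgroupOf.2 ⟨y, hy, by simp⟩
    have := hc _ hy'
    change _ ∈ ((R₁ : Subgroup C)) at this
    rw [← hR₁eq] at this
    simpa [Subgroup.mem_subgroupOf, hn, mul_assoc] using this
  have hnx : n * x * n⁻¹ = u * z := by
    have h1 : Commute (c : G) (u * z) := Subgroup.mem_centralizer_singleton_iff.1 c.2
    rw [hn, show (c : G) * g * x * ((c : G) * g)⁻¹ = (c : G) * (g * x * g⁻¹) * (c : G)⁻¹ by group,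
      e, h1.eq, mul_inv_cancel_right]
  have hnB : ∀ y ∈ B, n * y * n⁻¹ ∈ B :=
    hnorm n fun w hw => hQP (hnQ w (Subgroup.mem_sup_right hw))
  have hr : n * r * n⁻¹ ∈ R := hfix n hnQ hnB
  have hnR : n * x * n⁻¹ ∈ R := by
    obtain ⟨i, rfl⟩ := Subgroup.mem_zpowers_iff.1 (h.dih.gen ▸ hx)
    rw [← conj_zpow]
    exact zpow_mem hr i
  rw [hnx] at hnR
  have := mul_mem (inv_mem hu) hnR
  rw [inv_mul_cancel_left] at this
  exact h.pair.eq_one_of_mem (h.dih.le this) hz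

/-- The dihedral factor is strongly closed, the other factor being normalized by the elements taking it
into the Sylow subgroup. -/
theorem stronglyClosed_of_norm (hA : InvolClosed P A)
    (hnorm : ∀ n : G, (∀ y ∈ B, n * y * n⁻¹ ∈ (P : Subgroup G)) → ∀ y ∈ B, n * y * n⁻¹ ∈ B)
    (hsq : ∀ v ∈ B, v * v ≠ 1 → ∀ y ∈ B, Commute y (v ^ (orderOf v / 2)))
    (hred : ∀ v ∈ B, v * v = 1 → (∃ y ∈ B, ¬ Commute y v) → ∃ g : G,
      (∀ y ∈ A, g * y * g⁻¹ ∈ (P : Subgroup G)) ∧ g * v * g⁻¹ ∈ B ∧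
        ∀ y ∈ B, Commute y (g * v * g⁻¹))
    (hfix : ∀ n : G, (∀ y ∈ R ⊔ B, n * y * n⁻¹ ∈ R ⊔ B) → (∀ y ∈ B, n * y * n⁻¹ ∈ B) →
      n * r * n⁻¹ ∈ R) :
    IsStronglyClosed A (P : Subgroup G) := by
  refine ⟨h.pair.leA, fun x hx g hg => ?_⟩
  by_cases hx1 : x = 1
  · rw [hx1, mul_one, mul_inv_cancel]; exact one_mem A
  by_cases hx2 : x * x = 1
  · exact hA x hx (orderOf_two hx2 hx1) g hg
  have hxR := h.dih.mem_of_sq_ne hx hx2
  obtain ⟨u, hu, v, hv, e⟩ := h.pair.split hg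
  obtain ⟨huR, k, hxo, huo, hvk⟩ := h.pow_form hA hxR hx2 hu hv e
  have hne4 : ∀ {y : G}, y ∈ R → ∀ m : ℕ, orderOf y = 2 ^ (m + 2) → y * y ≠ 1 := by
    intro y _ m hm e2
    have := Nat.le_of_dvd two_pos
      (orderOf_dvd_of_pow_eq_one (x := y) (n := 2) (by rw [pow_two]; exact e2))
    have : 4 ≤ 2 ^ (m + 2) := by rw [pow_add]; exact Nat.le_mul_of_pos_left 4 (pow_pos two_pos m)
    omega
  suffices hv1 : v = 1 by rw [e, hv1, mul_one]; exact hu
  by_contra hv1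
  by_cases hv2 : v * v = 1
  · by_cases hvc : ∀ y ∈ B, Commute y v
    · exact hv1 (h.twist_eq_one hA hnorm hfix hxR hx2 huR (hne4 huR k huo) hv hvc e)
    obtain ⟨d, hdA, hdv, hdc⟩ := hred v hv hv2 (by push Not at hvc; exact hvc)
    have hu' : d * u * d⁻¹ ∈ A := conj_mem_of_closed hA h.gens hdA hu
    have hu'2 : (d * u * d⁻¹) * (d * u * d⁻¹) ≠ 1 := fun e2 => hne4 huR k huo (by
      have : d * (u * u) * d⁻¹ = 1 := by rw [conj_mul']; exact e2
      exact conj_eq_one_iff.1 this)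
    have := h.twist_eq_one hA hnorm hfix hxR hx2 (h.dih.mem_of_sq_ne hu' hu'2) hu'2 hdv hdc
      (g := d * g) (by
        rw [show d * g * x * (d * g)⁻¹ = d * (g * x * g⁻¹) * d⁻¹ by group, e, conj_mul'])
    exact hv1 (conj_eq_one_iff.1 this)
  · obtain ⟨l, hl⟩ := IsPGroup.iff_orderOf.1 P.isPGroup' ⟨v, h.pair.leB hv⟩
    rw [Subgroup.orderOf_mk] at hl
    obtain ⟨l, rfl⟩ : ∃ i, l = i + 1 := by
      rcases l with _ | i
      · rw [pow_zero, orderOf_eq_one_iff] at hl; exact absurd hl hv1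
      · exact ⟨i, rfl⟩
    have hlk : l ≤ k := by
      have := (hl ▸ orderOf_dvd_of_pow_eq_one hvk : 2 ^ (l + 1) ∣ 2 ^ (k + 1))
      have := (Nat.pow_dvd_pow_iff_le_right (by norm_num)).1 this
      omega
    obtain ⟨m, rfl⟩ := Nat.exists_eq_add_of_le hlk
    have hxm : orderOf (x ^ (2 ^ l)) = 2 ^ (m + 2) := orderOf_pow_two_pow (by rw [hxo, add_assoc])
    have hum : orderOf (u ^ (2 ^ l)) = 2 ^ (m + 2) := orderOf_pow_two_pow (by rw [huo, add_assoc])
    have hvl : v ^ (orderOf v / 2) = v ^ (2 ^ l) := by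
      rw [hl, pow_succ, Nat.mul_div_cancel _ two_pos]
    have hc := hsq v hv hv2
    rw [hvl] at hc
    have := h.twist_eq_one hA hnorm hfix (pow_mem hxR _) (hne4 (pow_mem hxR _) m hxm)
      (pow_mem huR _) (hne4 (pow_mem huR _) m hum) (pow_mem hv _) hc (g := g)
      (by rw [← conj_pow, e, h.pair.pow hu hv])
    have hd := orderOf_dvd_of_pow_eq_one this
    rw [hl] at hd
    have := (Nat.pow_dvd_pow_iff_le_right (by norm_num)).1 hd
    omega

/-- The dihedral factor is strongly closed. -/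
theorem stronglyClosed (hA : InvolClosed P A) (hB : InvolClosed P B)
    (gB : B ≤ Subgroup.closure {b | b ∈ B ∧ orderOf b = 2})
    (hsq : ∀ v ∈ B, v * v ≠ 1 → ∀ y ∈ B, Commute y (v ^ (orderOf v / 2)))
    (hred : ∀ v ∈ B, v * v = 1 → (∃ y ∈ B, ¬ Commute y v) → ∃ g : G,
      (∀ y ∈ A, g * y * g⁻¹ ∈ (P : Subgroup G)) ∧ g * v * g⁻¹ ∈ B ∧
        ∀ y ∈ B, Commute y (g * v * g⁻¹))
    (hfix : ∀ n : G, (∀ y ∈ R ⊔ B, n * y * n⁻¹ ∈ R ⊔ B) → (∀ y ∈ B, n * y * n⁻¹ ∈ B) →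
      n * r * n⁻¹ ∈ R) :
    IsStronglyClosed A (P : Subgroup G) :=
  h.stronglyClosed_of_norm hA (fun _ hn _ hy => conj_mem_of_closed hB gB hn hy) hsq hred hfix

end Big

end Cfsg.Agent.ProdFus.Split
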