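import Cfsg.Agent.Lib.Transfer.Product.Split.Basic

/-!
# Twisting a dihedral factor by central elements of the other factor
-/

set_option linter.unusedSectionVars false
set_option linter.style.haveILetI false

namespace Cfsg.Agent.ProdFus.Split

open Cfsg

universe u

variable {G : Type u} [Group G] [Finite G]

/-- The homomorphism of a dihedral group of even degree given by commuting square roots of one. -/
theorem exists_parity_hom {m : ℕ} (hm : 2 ∣ m) {Z : Subgroup G}
    (hZc : ∀ y ∈ Z, ∀ z ∈ Z, Commute y z) (hZ2 : ∀ z ∈ Z, z * z = 1) {u₀ u₁ : G} (h₀ : u₀ ∈ Z)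
    (h₁ : u₁ ∈ Z) :
    ∃ χ : DihedralGroup m →* G, (∀ x, χ x ∈ Z) ∧ χ (DihedralGroup.sr 0) = u₀ ∧
      χ (DihedralGroup.sr 1) = u₁ := by
  set v := u₀ * u₁ with hv
  have hvZ : v ∈ Z := mul_mem h₀ h₁
  set p := ZMod.castHom hm (ZMod 2) with hp
  set ψ : ZMod 2 → G := fun i => if i = 0 then 1 else v with hψ
  have hψZ : ∀ i, ψ i ∈ Z := fun i => by
    simp only [hψ]; split
    · exact one_mem Z
    · exact hvZ
  have hψa : ∀ i j, ψ (i + j) = ψ i * ψ j := by
    have h2 := hZ2 v hvZ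
    have h01 : ∀ i : ZMod 2, i = 0 ∨ i = 1 := by decide
    intro i j
    simp only [hψ]
    rcases h01 i with rfl | rfl <;> rcases h01 j with rfl | rfl <;>
      simp [h2, show ((1 : ZMod 2) + 1) = 0 by decide]
  have hψs : ∀ i j, ψ (i - j) = ψ j * ψ i := fun i j => by
    rw [← hψa]; congr 1
    revert i j; decide
  set F : DihedralGroup m → G := fun x => match x with
    | DihedralGroup.r i => ψ (p i)
    | DihedralGroup.sr i => u₀ * ψ (p i) with hF
  have hmul : ∀ x y, F (x * y) = F x * F y := by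
    rintro (i | i) (j | j)
    · simp only [hF, DihedralGroup.r_mul_r, map_add, hψa]
    · simp only [hF, DihedralGroup.r_mul_sr, map_sub, hψs]
      rw [← mul_assoc, ← mul_assoc, (hZc u₀ h₀ _ (hψZ _)).eq]
    · simp only [hF, DihedralGroup.sr_mul_r, map_add, hψa, mul_assoc]
    · simp only [hF, DihedralGroup.sr_mul_sr, map_sub, hψs]
      calc ψ (p i) * ψ (p j) = (u₀ * u₀) * (ψ (p i) * ψ (p j)) := by rw [hZ2 u₀ h₀, one_mul]
        _ = u₀ * (u₀ * ψ (p i)) * ψ (p j) := by group
        _ = u₀ * (ψ (p i) * u₀) * ψ (p j) := by rw [(hZc u₀ h₀ _ (hψZ _)).eq]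
        _ = u₀ * ψ (p i) * (u₀ * ψ (p j)) := by group
  refine ⟨MonoidHom.mk' F hmul, ?_, ?_, ?_⟩
  · rintro (i | i)
    · exact hψZ _
    · exact mul_mem h₀ (hψZ _)
  · show u₀ * ψ (p 0) = u₀
    simp [hψ]
  · show u₀ * ψ (p 1) = u₁
    simp [hψ, hv, ← mul_assoc, hZ2 u₀ h₀]

/-- Every reflection is conjugate to one of two fixed ones. -/
theorem isConj_sr {m : ℕ} (hm : 2 ∣ m) [NeZero m] (i : ZMod m) :
    IsConj (DihedralGroup.sr (0 : ZMod m)) (DihedralGroup.sr i) ∨
      IsConj (DihedralGroup.sr (1 : ZMod m)) (DihedralGroup.sr i) := by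
  have hj : ∀ j k : ZMod m, IsConj (DihedralGroup.sr k) (DihedralGroup.sr (k + (j + j))) :=
    fun j k => isConj_iff.2 ⟨DihedralGroup.r (-j), by
      simp only [DihedralGroup.inv_r, DihedralGroup.r_mul_sr, DihedralGroup.sr_mul_r]
      congr 1; ring⟩
  rcases Nat.even_or_odd' i.val with ⟨j, e | e⟩
  · refine .inl ?_
    convert hj (j : ZMod m) 0 using 2
    rw [← ZMod.natCast_zmod_val i, e]; push_cast; ring
  · refine .inr ?_
    convert hj (j : ZMod m) 1 using 2
    rw [← ZMod.natCast_zmod_val i, e]; push_cast; ring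

namespace Big

variable {P : Sylow 2 G} {A B R : Subgroup G} {r s a : G} (h : Big P A B R r s a)
include h

/-- Twisting the dihedral factor so that all its involutions are conjugate to the central one. -/
theorem exists_twist {m : ℕ} (hm : 2 ∣ m) (e : A ≃* DihedralGroup m) (Z : Subgroup G) (hZB : Z ≤ B)
    (hZc : ∀ z ∈ Z, ∀ y ∈ B, Commute y z) (hZ2 : ∀ z ∈ Z, z * z = 1)
    (hx : ∀ x ∈ A, x ∉ R → ∃ u ∈ Z, IsConj (x * u) a) :
    ∃ (A' R' : Subgroup G) (r' s' : G), Big P A' B R' r' s' a ∧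
      Nonempty (A' ≃* DihedralGroup m) ∧ ∀ x ∈ A', orderOf x = 2 → IsConj x a := by
  classical
  haveI : NeZero m := ⟨fun h0 => by
    subst h0
    haveI := Finite.of_equiv A e.toEquiv
    haveI : Finite ℤ := Finite.of_injective (fun i : ℤ => (DihedralGroup.r i : DihedralGroup 0))
      fun i j hij => DihedralGroup.r.inj hij
    exact not_finite ℤ⟩
  obtain ⟨c, hcR, hca, -⟩ := h.exists_root
  have hout : ∀ i, ((e.symm (DihedralGroup.sr i) : A) : G) ∉ R := by
    intro i hR
    have hsq : ((e.symm (DihedralGroup.sr i) : A) : G) * (e.symm (DihedralGroup.sr i) : A) = 1 := by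
      rw [← Subgroup.coe_mul, ← map_mul, DihedralGroup.sr_mul_self, map_one, Subgroup.coe_one]
    rcases h.R_sq hR hsq with e1 | e1
    · rw [OneMemClass.coe_eq_one, MulEquiv.map_eq_one_iff] at e1
      cases e1
    · have e2 : e.symm (DihedralGroup.sr i) = ⟨c, h.dih.le hcR⟩ * ⟨c, h.dih.le hcR⟩ :=
        Subtype.ext (e1.trans hca.symm)
      rw [e.symm_apply_eq, map_mul] at e2
      generalize e ⟨c, h.dih.le hcR⟩ = z at e2
      rcases z with j | j
      · simp [DihedralGroup.r_mul_r] at e2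
      · rw [DihedralGroup.sr_mul_self, DihedralGroup.one_def] at e2; cases e2
  obtain ⟨u₀, hu₀, hc₀⟩ := hx _ (e.symm (DihedralGroup.sr 0)).2 (hout 0)
  obtain ⟨u₁, hu₁, hc₁⟩ := hx _ (e.symm (DihedralGroup.sr 1)).2 (hout 1)
  obtain ⟨χ, hχZ, hχ₀, hχ₁⟩ := exists_parity_hom hm
    (fun y hy z hz => hZc z hz y (hZB hy)) hZ2 hu₀ hu₁
  have hχc : ∀ (x : DihedralGroup m) (y : G), y ∈ B → Commute y (χ x) := fun x y hy =>
    hZc _ (hχZ x) y hy
  let φ : A →* G := MonoidHom.mk' (fun x => (x : G) * χ (e x)) fun x y => by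
    rw [Subgroup.coe_mul, map_mul, map_mul]
    calc (x : G) * y * (χ (e x) * χ (e y)) = x * ((y : G) * χ (e x)) * χ (e y) := by group
      _ = x * (χ (e x) * (y : G)) * χ (e y) := by
        rw [(h.pair.comm _ y.2 _ (hZB (hχZ _))).eq]
      _ = _ := by group
  have hφ : ∀ x : A, φ x = (x : G) * χ (e x) := fun _ => rfl
  have hone : ∀ (x : A) {v : G}, v ∈ B → φ x = v → x = 1 := by
    intro x v hv e1
    exact Subtype.ext (h.pair.uniq x.2 (one_mem A) (hZB (hχZ _)) hv (by rw [one_mul]; exact e1)).1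
  have hinj : Function.Injective φ := (injective_iff_map_eq_one φ).2 fun x hx1 =>
    hone x (one_mem B) hx1
  set R₀ := R.subgroupOf A
  set rA : A := ⟨r, h.dih.le h.r_mem⟩ with hrA
  set sA : A := ⟨s, h.dih.s_mem⟩ with hsA
  have hR : ∀ x : A, (x : G) ∈ R → ∃ i : ℤ, x = rA ^ i := fun x hxR => by
    obtain ⟨i, hi⟩ := Subgroup.mem_zpowers_iff.1 (h.dih.gen ▸ hxR)
    exact ⟨i, Subtype.ext (by rw [SubgroupClass.coe_zpow]; exact hi.symm)⟩
  have hχa : φ ⟨a, h.a_mem⟩ = a := by
    have e1 : (⟨a, h.a_mem⟩ : A) = ⟨c, h.dih.le hcR⟩ * ⟨c, h.dih.le hcR⟩ := Subtype.ext hca.symm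
    rw [hφ]
    conv_lhs => arg 2; rw [e1, map_mul, map_mul, hZ2 _ (hχZ _)]
    exact mul_one a
  have hcl : A ≤ ((Subgroup.closure {b | b ∈ φ.range ∧ orderOf b = 2}).comap φ).map A.subtype := by
    refine h.gens.trans ((Subgroup.closure_le _).2 fun b hb => ?_)
    refine ⟨⟨b, hb.1⟩, Subgroup.subset_closure ⟨⟨⟨b, hb.1⟩, rfl⟩, ?_⟩, rfl⟩
    rw [orderOf_injective φ hinj, Subgroup.orderOf_mk]
    exact hb.2
  refine ⟨φ.range, Subgroup.zpowers (φ rA), φ rA, φ sA,
    { pair := ⟨?_, ?_, ?_⟩, dih := ?_, four := ?_, gens := ?_ }, ⟨(MonoidHom.ofInjective hinj).symm.trans e⟩, ?_⟩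
  · rintro _ ⟨x, rfl⟩ y hy
    exact (h.pair.comm x x.2 y hy).mul_left (hχc _ y hy).symm
  · rw [eq_bot_iff]
    rintro _ ⟨⟨x, rfl⟩, hy⟩
    rw [Subgroup.mem_bot, hone x hy rfl, map_one]
  · refine le_antisymm (sup_le ?_ h.pair.leB) ?_
    · rintro _ ⟨x, rfl⟩
      exact h.pair.mul_mem' x.2 (hZB (hχZ _))
    · rw [← h.pair.sup]
      refine sup_le (fun x hx' => ?_) le_sup_right
      have : x = φ ⟨x, hx'⟩ * (χ (e ⟨x, hx'⟩))⁻¹ := by rw [hφ, mul_inv_cancel_right]
      rw [this]
      exact Subgroup.mul_mem_sup ⟨_, rfl⟩ (inv_mem (hZB (hχZ _)))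
  · exact
    { gen := rfl
      le := Subgroup.zpowers_le.2 ⟨rA, rfl⟩
      s_mem := ⟨sA, rfl⟩
      s_not := fun hx1 => by
        obtain ⟨i, hi⟩ := Subgroup.mem_zpowers_iff.1 hx1
        rw [← map_zpow] at hi
        refine h.dih.s_not ?_
        have := congrArg Subtype.val (hinj hi)
        rw [SubgroupClass.coe_zpow] at this
        change r ^ i = s at this
        rw [← this]
        exact zpow_mem h.r_mem i
      s_sq := by
        rw [← map_mul, show sA * sA = 1 from Subtype.ext h.dih.s_sq, map_one]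
      inv := fun x hx1 => by
        obtain ⟨i, rfl⟩ := Subgroup.mem_zpowers_iff.1 hx1
        rw [← map_zpow, ← map_inv, ← map_inv, ← map_mul, ← map_mul]
        congr 1
        exact Subtype.ext (h.dih.inv _ (zpow_mem h.r_mem i))
      cases := fun x hx1 => by
        obtain ⟨y, rfl⟩ := hx1
        rcases h.dih.cases y y.2 with hy | hy
        · obtain ⟨i, hi⟩ := hR y hy
          exact .inl (Subgroup.mem_zpowers_iff.2 ⟨i, by rw [hi, map_zpow]⟩)
        · obtain ⟨i, hi⟩ := hR (y * sA) hy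
          exact .inr (Subgroup.mem_zpowers_iff.2 ⟨i, by rw [← map_mul, hi, map_zpow]⟩)
      a_mem := by
        obtain ⟨i, hi⟩ := hR ⟨a, h.a_mem⟩ h.dih.a_mem
        exact Subgroup.mem_zpowers_iff.2 ⟨i, by rw [← map_zpow, ← hi, hχa]⟩
      a_ord := h.dih.a_ord }
  · rw [orderOf_injective φ hinj, hrA, Subgroup.orderOf_mk]
    exact h.four
  · rintro _ ⟨x, rfl⟩
    obtain ⟨y, hy, e1⟩ := hcl x.2
    rwa [show y = x from Subtype.ext e1] at hy
  · rintro _ ⟨x, rfl⟩ hx2
    rw [orderOf_injective φ hinj] at hx2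
    rcases hex : e x with i | i
    · have hcen : ∀ y ∈ A, Commute y (x : G) := by
        intro y hy
        have hi : i + i = 0 := by
          have := mul_self_two (hx2 ▸ MulEquiv.orderOf_eq e x)
          rw [hex, DihedralGroup.r_mul_r, DihedralGroup.one_def, DihedralGroup.r.injEq] at this
          exact this
        have h1 : Commute (e ⟨y, hy⟩) (e x) := by
          rw [hex]
          rcases e ⟨y, hy⟩ with j | j <;> show _ = _
          · rw [DihedralGroup.r_mul_r, DihedralGroup.r_mul_r, add_comm]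
          · rw [DihedralGroup.r_mul_sr, DihedralGroup.sr_mul_r]
            congr 1; linear_combination hi
        have := congrArg (fun z => ((e.symm z : A) : G)) h1.eq
        simpa [Commute, SemiconjBy] using this
      rcases h.center_cases x.2 hcen with e1 | e1
      · rw [OneMemClass.coe_eq_one.1 e1, orderOf_one] at hx2; omega
      · rw [show x = ⟨a, h.a_mem⟩ from Subtype.ext e1, hχa]
    · have hlift : ∀ z : DihedralGroup m, IsConj z (e x) → IsConj (φ (e.symm z)) (φ x) := by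
        intro z hz
        have := (φ.comp e.symm.toMonoidHom).map_isConj hz
        simpa using this
      rcases isConj_sr hm i with hi | hi
      · refine (hlift _ (hex ▸ hi)).symm.trans ?_
        rw [hφ, MulEquiv.apply_symm_apply, hχ₀]; exact hc₀
      · refine (hlift _ (hex ▸ hi)).symm.trans ?_
        rw [hφ, MulEquiv.apply_symm_apply, hχ₁]; exact hc₁

end Big

end Cfsg.Agent.ProdFus.Split
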