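import Cfsg.Agent.Lib.Transfer.Product.Split.Basic

/-!
# Central fusion and the orbit of the cyclic part
-/

set_option linter.unusedSectionVars false
set_option linter.style.haveILetI false

namespace Cfsg.Agent.ProdFus.Split

open Cfsg
open scoped Pointwise

universe u

variable {G : Type u} [Group G] [Finite G]

/-- A normalizing element of the Sylow subgroup cannot interchange two central elements. -/
theorem eq_of_swap {P : Sylow 2 G} {n x y : G} (hn : n ∈ Subgroup.normalizer (P : Set G))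
    (hc : ∀ p ∈ (P : Subgroup G), Commute p x) (e₁ : n * x * n⁻¹ = y) (e₂ : n * y * n⁻¹ = x) :
    x = y := by
  haveI : Fact (Nat.Prime 2) := ⟨Nat.prime_two⟩
  have hk : ∀ k : ℕ, n ^ k * x * (n ^ k)⁻¹ = if Even k then x else y := by
    intro k
    induction k with
    | zero => simp
    | succ k ih =>
      rw [pow_succ', show n * n ^ k * x * (n * n ^ k)⁻¹ = n * (n ^ k * x * (n ^ k)⁻¹) * n⁻¹ by group,
        ih]
      by_cases h : Even k
      · rw [if_pos h, if_neg (Nat.not_even_iff_odd.2 h.add_one), e₁]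
      · rw [if_neg h, if_pos (Nat.not_even_iff_odd.1 h).add_one, e₂]
  obtain ⟨k, t, ht, hord⟩ := Nat.exists_eq_two_pow_mul_odd (orderOf_pos n).ne'
  have hp : IsPGroup 2 (Subgroup.zpowers (n ^ t)) := by
    refine IsPGroup.of_card (n := k) ?_
    rw [Nat.card_zpowers, orderOf_pow' _ ht.pos.ne', hord, Nat.gcd_eq_right (Dvd.intro_left _ rfl),
      Nat.mul_div_cancel _ ht.pos]
  have hmem : n ^ t ∈ (P : Subgroup G) := by
    have hle : Subgroup.zpowers (n ^ t) ≤ Subgroup.normalizer (P : Set G) :=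
      Subgroup.zpowers_le.2 (pow_mem hn t)
    have := hp.inf_normalizer_sylow P
    rw [inf_eq_left.2 hle] at this
    exact (this.le (Subgroup.mem_zpowers _)).2
  have := hk t
  rw [(hc _ hmem).eq, mul_inv_cancel_right, if_neg (Nat.not_even_iff_odd.2 ht)] at this
  exact this

namespace Big

variable {P : Sylow 2 G} {A B R : Subgroup G} {r s a : G} (h : Big P A B R r s a)
include h

theorem conj_R {p x : G} (hp : p ∈ (P : Subgroup G)) (hx : x ∈ R) : p * x * p⁻¹ ∈ R := by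
  obtain ⟨u, hu, v, hv, rfl⟩ := h.pair.split hp
  rw [show u * v * x * (u * v)⁻¹ = u * (v * x * v⁻¹) * u⁻¹ by group,
    (h.pair.comm x (h.dih.le hx) v hv).symm.eq, mul_inv_cancel_right]
  by_cases huR : u ∈ R
  · rwa [(h.R_comm huR hx).eq, mul_inv_cancel_right]
  · rw [h.inv_all hu huR hx]; exact inv_mem hx

theorem conj_B {p x : G} (hp : p ∈ (P : Subgroup G)) (hx : x ∈ B) : p * x * p⁻¹ ∈ B := by
  obtain ⟨u, hu, v, hv, rfl⟩ := h.pair.split hp
  have : v * x * v⁻¹ ∈ B := mul_mem (mul_mem hv hx) (inv_mem hv)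
  rw [show u * v * x * (u * v)⁻¹ = u * (v * x * v⁻¹) * u⁻¹ by group, (h.pair.comm u hu _ this).eq,
    mul_inv_cancel_right]
  exact this

theorem conj_M {p x : G} (hp : p ∈ (P : Subgroup G)) (hx : x ∈ R ⊔ B) :
    p * x * p⁻¹ ∈ R ⊔ B := by
  obtain ⟨u, hu, v, hv, rfl⟩ := h.pair.mem_sup h.dih.le hx
  rw [conj_mul']
  exact Subgroup.mul_mem_sup (h.conj_R hp hu) (h.conj_B hp hv)

theorem r_pow_two : ∃ k, orderOf r = 2 ^ (k + 2) := by
  haveI : Fact (Nat.Prime 2) := ⟨Nat.prime_two⟩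
  obtain ⟨k, hk⟩ := IsPGroup.iff_orderOf.1 P.isPGroup' ⟨r, h.pair.leA (h.dih.le h.r_mem)⟩
  rw [Subgroup.orderOf_mk] at hk
  have h4 := h.four
  rcases k with _ | _ | i
  · rw [hk] at h4; omega
  · rw [hk] at h4; omega
  · exact ⟨i, hk⟩

/-- The image of the generator of `R` under an element normalizing `R ⊔ B` and `B`. -/
theorem image_r (hBc : ∀ z ∈ B, (∀ y ∈ B, Commute y z) → z * z = 1) {n : G}
    (hQ : ∀ y ∈ R ⊔ B, n * y * n⁻¹ ∈ R ⊔ B) (hB : ∀ y ∈ B, n * y * n⁻¹ ∈ B) :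
    ∃ i : ℤ, Odd i ∧ ∃ β ∈ B, β * β = 1 ∧ (∀ y ∈ B, Commute y β) ∧
      n * r * n⁻¹ = r ^ i * β := by
  obtain ⟨α, hα, β, hβ, e⟩ := h.pair.mem_sup h.dih.le (hQ r (Subgroup.mem_sup_left h.r_mem))
  obtain ⟨i, rfl⟩ := Subgroup.mem_zpowers_iff.1 (h.dih.gen ▸ hα)
  have hn : n⁻¹ ∈ Subgroup.normalizer (B : Set G) := inv_mem (BS.mem_normalizer_of_conj_le hB)
  have hc : ∀ y ∈ B, Commute y β := by
    intro y hy
    have hy' : n⁻¹ * y * n ∈ B := by
      have := (Subgroup.mem_normalizer_iff.1 hn y).1 hy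
      rwa [inv_inv] at this
    have h1 := commute_conj n (h.pair.comm r (h.dih.le h.r_mem) _ hy').symm
    rw [e, show n * (n⁻¹ * y * n) * n⁻¹ = 1 * y by group] at h1
    exact ((h.pair.commute_iff (one_mem A) hy (h.dih.le hα) hβ).1 h1).2
  have hb2 := hBc β hβ hc
  refine ⟨i, ?_, β, hβ, hb2, hc, e⟩
  rw [← Int.not_even_iff_odd]
  rintro ⟨j, rfl⟩
  obtain ⟨k, hk⟩ := h.r_pow_two
  have hord : orderOf (n * r * n⁻¹) = 2 ^ (k + 2) := by rw [orderOf_conj, hk]
  have h1 : (n * r * n⁻¹) ^ (2 ^ (k + 1)) = 1 := by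
    rw [e, h.pair.pow (h.dih.le hα) hβ]
    have hb : β ^ 2 = 1 := by rw [pow_two]; exact hb2
    have hβ1 : β ^ (2 ^ (k + 1)) = 1 := by rw [pow_succ', pow_mul, hb, one_pow]
    rw [hβ1, mul_one, ← zpow_natCast, ← zpow_mul,
      show (j + j) * ((2 ^ (k + 1) : ℕ) : ℤ) = (orderOf r : ℤ) * j by
        rw [hk]; push_cast; ring,
      zpow_mul, zpow_natCast, pow_orderOf_eq_one, one_zpow]
  have := orderOf_dvd_of_pow_eq_one h1
  rw [hord, Nat.pow_dvd_pow_iff_le_right (by norm_num)] at this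
  omega

theorem orderOf_line {β : G} (hβ : β ∈ B) (hb : β * β = 1) : orderOf (r * β) = orderOf r := by
  obtain ⟨k, hk⟩ := h.r_pow_two
  have hd : (r * β) ^ orderOf r = 1 := by
    rw [h.pair.pow (h.dih.le h.r_mem) hβ, pow_orderOf_eq_one, one_mul, hk,
      show (2 : ℕ) ^ (k + 2) = 2 * 2 ^ (k + 1) by rw [pow_succ'], pow_mul, pow_two, hb, one_pow]
  refine Nat.dvd_antisymm (orderOf_dvd_of_pow_eq_one hd) (orderOf_dvd_of_pow_eq_one ?_)
  have h1 := pow_orderOf_eq_one (r * β)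
  rw [h.pair.pow (h.dih.le h.r_mem) hβ] at h1
  exact ((h.pair.eq_one_iff (pow_mem (h.dih.le h.r_mem) _) (pow_mem hβ _)).1 h1).1

/-- The conjugate of `R` determined by the twisting element. -/
theorem map_R {n β : G} {i : ℤ} (hi : Odd i) (hβ : β ∈ B) (hb : β * β = 1)
    (e : n * r * n⁻¹ = r ^ i * β) :
    R.map (MulAut.conj n).toMonoidHom = Subgroup.zpowers (r * β) := by
  rw [h.dih.gen, MonoidHom.map_zpowers]
  have he : (MulAut.conj n).toMonoidHom r = (r * β) ^ i := by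
    show n * r * n⁻¹ = _
    rw [e, (h.pair.comm r (h.dih.le h.r_mem) β hβ).mul_zpow]
    obtain ⟨j, rfl⟩ := hi
    rw [zpow_add β, zpow_one, zpow_mul, zpow_two, hb, one_zpow, one_mul]
  refine Subgroup.eq_of_le_of_card_ge (Subgroup.zpowers_le.2 ⟨i, he.symm⟩) ?_
  rw [Nat.card_zpowers, Nat.card_zpowers, h.orderOf_line hβ hb]
  show orderOf r ≤ orderOf (n * r * n⁻¹)
  rw [orderOf_conj]

theorem line_inj {β β' : G} (hβ : β ∈ B) (hβ' : β' ∈ B) (hb : β * β = 1)
    (e : Subgroup.zpowers (r * β') = Subgroup.zpowers (r * β)) : β' = β := by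
  obtain ⟨l, hl⟩ := Subgroup.mem_zpowers_iff.1 (e ▸ Subgroup.mem_zpowers (r * β'))
  rw [(h.pair.comm r (h.dih.le h.r_mem) β hβ).mul_zpow] at hl
  obtain ⟨h1, h2⟩ := h.pair.uniq (zpow_mem (h.dih.le h.r_mem) l) (h.dih.le h.r_mem)
    (zpow_mem hβ l) hβ' hl
  have hd : (orderOf r : ℤ) ∣ (1 : ℤ) - l :=
    orderOf_dvd_iff_zpow_eq_one.2 (by rw [zpow_sub, zpow_one, h1, mul_inv_cancel])
  obtain ⟨k, hk⟩ := h.r_pow_two
  obtain ⟨c, hc⟩ := hd
  rw [hk] at hc
  have hc' : l = 1 + 2 * (-(2 ^ (k + 1) * c)) := by push_cast at hc; linear_combination -hc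
  rw [← h2, hc', zpow_add, zpow_one, zpow_mul, zpow_two, hb, one_zpow, mul_one]

/-- The elements normalizing `R ⊔ B` and `B` move `R` in an orbit of odd length. -/
theorem odd_orbit_R :
    Odd {K : Subgroup G | ∃ n : G, (∀ y ∈ R ⊔ B, n * y * n⁻¹ ∈ R ⊔ B) ∧
      (∀ y ∈ B, n * y * n⁻¹ ∈ B) ∧ R.map (MulAut.conj n).toMonoidHom = K}.ncard := by
  let _ : MulAction G (Subgroup G) := MulAction.compHom (Subgroup G) (MulAut.conj : G →* MulAut G)
  set N := Subgroup.normalizer ((R ⊔ B : Subgroup G) : Set G) ⊓ Subgroup.normalizer (B : Set G)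
    with hN
  have hsmul : ∀ (g : G) (K : Subgroup G), g • K = K.map (MulAut.conj g).toMonoidHom :=
    fun g K => rfl
  have hPN : (P : Subgroup G) ≤ N := fun p hp => ⟨BS.mem_normalizer_of_conj_le fun y hy =>
    h.conj_M hp hy, BS.mem_normalizer_of_conj_le fun y hy => h.conj_B hp hy⟩
  have := odd_orbit P N hPN R fun p hp => by
    rw [hsmul]
    refine Subgroup.eq_of_le_of_card_ge ?_ ?_
    · rintro _ ⟨x, hx, rfl⟩
      exact h.conj_R hp hx
    · rw [Subgroup.card_map_of_injective (MulEquiv.injective _)]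
  convert this using 1
  rw [← Nat.card_coe_set_eq]
  congr 1
  refine congrArg _ (Set.ext fun K => ?_)
  rw [Set.mem_setOf_eq, MulAction.mem_orbit_iff]
  constructor
  · rintro ⟨n, hQ, hB, rfl⟩
    exact ⟨⟨n, BS.mem_normalizer_of_conj_le hQ, BS.mem_normalizer_of_conj_le hB⟩, hsmul n R⟩
  · rintro ⟨⟨n, hn1, hn2⟩, rfl⟩
    exact ⟨n, fun y hy => (Subgroup.mem_normalizer_iff.1 hn1 y).1 hy,
      fun y hy => (Subgroup.mem_normalizer_iff.1 hn2 y).1 hy, (hsmul n R).symm⟩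

end Big

end Cfsg.Agent.ProdFus.Split
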