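import Cfsg.Agent.Lib.Transfer.Product.Dihedral
import Cfsg.Agent.Lib.Transfer.Burnside
import Cfsg.Agent.Lib.Invol.Transfer2

/-!
# A Sylow 2-subgroup that is a product of two dihedral groups

Groundwork for showing that the fusion splits.
-/

set_option linter.unusedSectionVars false
set_option linter.style.haveILetI false

namespace Cfsg.Agent.ProdFus.Split

open Cfsg

universe u

variable {G : Type u} [Group G] [Finite G]

/-- Commuting disjoint subgroups generating the Sylow subgroup. -/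
structure Pair (P : Sylow 2 G) (A B : Subgroup G) : Prop where
  comm : ∀ a ∈ A, ∀ b ∈ B, Commute a b
  disj : A ⊓ B = ⊥
  sup : A ⊔ B = (P : Subgroup G)

variable {P : Sylow 2 G} {A B R : Subgroup G} {r s a : G}

namespace Pair

theorem swap (h : Pair P A B) : Pair P B A :=
  ⟨fun x hx y hy => (h.comm y hy x hx).symm, by rw [inf_comm, h.disj], by rw [sup_comm, h.sup]⟩

variable (h : Pair P A B)
include h

theorem leA : A ≤ (P : Subgroup G) := h.sup ▸ le_sup_left

theorem leB : B ≤ (P : Subgroup G) := h.sup ▸ le_sup_right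

theorem mul_mem' {u v : G} (hu : u ∈ A) (hv : v ∈ B) : u * v ∈ (P : Subgroup G) :=
  mul_mem (h.leA hu) (h.leB hv)

theorem le_normalizer {C : Subgroup G} (hC : C ≤ A) : C ≤ Subgroup.normalizer (B : Set G) :=
  fun a ha => BS.mem_normalizer_of_conj_le fun b hb => by
    rwa [(h.comm a (hC ha) b hb).eq, mul_inv_cancel_right]

theorem mem_sup {C : Subgroup G} (hC : C ≤ A) {x : G} (hx : x ∈ C ⊔ B) :
    ∃ u ∈ C, ∃ v ∈ B, x = u * v := by
  obtain ⟨b, hb, c, hc, rfl⟩ := ExtClosed.mem_sup_dec (h.le_normalizer hC) hx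
  exact ⟨c, hc, b, hb, (h.comm c (hC hc) b hb).symm.eq⟩

theorem split {x : G} (hx : x ∈ (P : Subgroup G)) : ∃ u ∈ A, ∃ v ∈ B, x = u * v :=
  h.mem_sup le_rfl (h.sup.symm ▸ hx)

theorem uniq {u u' v v' : G} (hu : u ∈ A) (hu' : u' ∈ A) (hv : v ∈ B) (hv' : v' ∈ B)
    (e : u * v = u' * v') : u = u' ∧ v = v' := by
  have h1 : u'⁻¹ * u = v' * v⁻¹ := by
    rw [eq_mul_inv_iff_mul_eq, mul_assoc, e, inv_mul_cancel_left]
  have h2 : u'⁻¹ * u ∈ A ⊓ B :=
    Subgroup.mem_inf.2 ⟨mul_mem (inv_mem hu') hu, h1 ▸ mul_mem hv' (inv_mem hv)⟩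
  rw [h.disj, Subgroup.mem_bot, inv_mul_eq_one] at h2
  subst h2
  exact ⟨rfl, mul_left_cancel e⟩

theorem eq_one_of_mem {x : G} (hA : x ∈ A) (hB : x ∈ B) : x = 1 := by
  have := Subgroup.mem_inf.2 ⟨hA, hB⟩
  rwa [h.disj, Subgroup.mem_bot] at this

theorem pow {u v : G} (hu : u ∈ A) (hv : v ∈ B) (n : ℕ) : (u * v) ^ n = u ^ n * v ^ n :=
  (h.comm u hu v hv).mul_pow n

theorem sq {u v : G} (hu : u ∈ A) (hv : v ∈ B) : u * v * (u * v) = u * u * (v * v) := by
  have := (h.comm u hu v hv).eq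
  calc u * v * (u * v) = u * (v * u) * v := by group
    _ = u * (u * v) * v := by rw [this]
    _ = u * u * (v * v) := by group

theorem mul_mul {u v u' v' : G} (hv : v ∈ B) (hu' : u' ∈ A) :
    u * v * (u' * v') = u * u' * (v * v') := by
  calc u * v * (u' * v') = u * (v * u') * v' := by group
    _ = u * (u' * v) * v' := by rw [(h.comm u' hu' v hv).eq]
    _ = u * u' * (v * v') := by group

theorem commute_iff {u v u' v' : G} (hu : u ∈ A) (hv : v ∈ B) (hu' : u' ∈ A) (hv' : v' ∈ B) :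
    Commute (u * v) (u' * v') ↔ Commute u u' ∧ Commute v v' := by
  refine ⟨fun e => ?_, fun e => ?_⟩
  · have := e.eq
    rw [h.mul_mul hv hu', h.mul_mul hv' hu] at this
    exact h.uniq (mul_mem hu hu') (mul_mem hu' hu) (mul_mem hv hv') (mul_mem hv' hv) this
  · show _ = _
    rw [h.mul_mul hv hu', h.mul_mul hv' hu, e.1.eq, e.2.eq]

theorem eq_one_iff {u v : G} (hu : u ∈ A) (hv : v ∈ B) : u * v = 1 ↔ u = 1 ∧ v = 1 := by
  refine ⟨fun e => ?_, fun e => by rw [e.1, e.2, mul_one]⟩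
  exact h.uniq hu (one_mem _) hv (one_mem _) (e.trans (one_mul 1).symm)

end Pair

theorem orderOf_pow_two_pow {x : G} {i j : ℕ} (hx : orderOf x = 2 ^ (i + j)) :
    orderOf (x ^ (2 ^ i)) = 2 ^ j := by
  rw [orderOf_pow' _ (pow_ne_zero i two_ne_zero), hx,
    Nat.gcd_eq_right (pow_dvd_pow 2 (Nat.le_add_right i j)), pow_add,
    Nat.mul_div_cancel_left _ (pow_pos two_pos i)]

theorem orderOf_two {x : G} (h : x * x = 1) (h1 : x ≠ 1) : orderOf x = 2 :=
  orderOf_eq_prime (by rw [pow_two]; exact h) h1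

theorem mul_self_two {x : G} (h : orderOf x = 2) : x * x = 1 := by
  rw [← pow_two, ← h, pow_orderOf_eq_one]

theorem orderOf_conj (g x : G) : orderOf (g * x * g⁻¹) = orderOf x :=
  Cfsg.Agent.ProdFus.orderOf_conj' g x

/-- A conjugate commuting pair. -/
theorem commute_conj (g : G) {x y : G} (h : Commute x y) :
    Commute (g * x * g⁻¹) (g * y * g⁻¹) :=
  h.map (MulAut.conj g).toMonoidHom

theorem conj_mul' (g x y : G) : g * (x * y) * g⁻¹ = g * x * g⁻¹ * (g * y * g⁻¹) := by group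

/-- A dihedral factor of order at least eight. -/
structure Big (P : Sylow 2 G) (A B R : Subgroup G) (r s a : G) : Prop where
  pair : Pair P A B
  dih : Dih A R r s a
  four : 4 ≤ orderOf r
  gens : A ≤ Subgroup.closure {b | b ∈ A ∧ orderOf b = 2}

namespace Big

variable (h : Big P A B R r s a)
include h

theorem a_mem : a ∈ A := h.dih.le h.dih.a_mem

theorem r_mem : r ∈ R := h.dih.gen ▸ Subgroup.mem_zpowers r

theorem a_ne : a ≠ 1 := Invol.ne_one_of_orderOf_two h.dih.a_ord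

theorem inv_all {x y : G} (hx : x ∈ A) (hxR : x ∉ R) (hy : y ∈ R) : x * y * x⁻¹ = y⁻¹ := by
  have hxs := (h.dih.cases x hx).resolve_left hxR
  have e : x = x * s * s := by rw [mul_assoc, h.dih.s_sq, mul_one]
  have hc : Commute (x * s) y⁻¹ := by
    obtain ⟨i, hi⟩ := Subgroup.mem_zpowers_iff.1 (h.dih.gen ▸ hxs)
    obtain ⟨j, hj⟩ := Subgroup.mem_zpowers_iff.1 (h.dih.gen ▸ inv_mem hy)
    rw [← hi, ← hj]
    exact Commute.zpow_zpow (Commute.refl r) i j
  calc x * y * x⁻¹ = (x * s * s) * y * (x * s * s)⁻¹ := by rw [← e]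
    _ = (x * s) * (s * y * s⁻¹) * (x * s)⁻¹ := by group
    _ = (x * s) * y⁻¹ * (x * s)⁻¹ := by rw [h.dih.inv y hy]
    _ = y⁻¹ := by rw [hc.eq, mul_inv_cancel_right]

theorem R_comm {x y : G} (hx : x ∈ R) (hy : y ∈ R) : Commute x y := by
  obtain ⟨i, hi⟩ := Subgroup.mem_zpowers_iff.1 (h.dih.gen ▸ hx)
  obtain ⟨j, hj⟩ := Subgroup.mem_zpowers_iff.1 (h.dih.gen ▸ hy)
  rw [← hi, ← hj]
  exact Commute.zpow_zpow (Commute.refl r) i j

theorem R_sq {x : G} (hx : x ∈ R) (h2 : x * x = 1) : x = 1 ∨ x = a := by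
  by_cases h1 : x = 1
  · exact .inl h1
  · exact .inr (h.dih.unique_invol hx h.dih.a_mem (orderOf_two h2 h1) h.dih.a_ord)

theorem r_sq_ne : r * r ≠ 1 := fun e => by
  have h4 := h.four
  have := Nat.le_of_dvd two_pos
    (orderOf_dvd_of_pow_eq_one (x := r) (n := 2) (by rw [pow_two]; exact e))
  omega

/-- An element outside `R` centralizes only the elements of `R` of square one. -/
theorem sq_of_commute {x y : G} (hx : x ∈ A) (hxR : x ∉ R) (hy : y ∈ R) (hc : Commute x y) :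
    y * y = 1 := by
  have := h.inv_all hx hxR hy
  rw [hc.eq, mul_inv_cancel_right] at this
  exact mul_eq_one_iff_eq_inv.2 this

theorem centralizer_cases {x y : G} (hx : x ∈ A) (hxR : x ∉ R) (hy : y ∈ A) (hc : Commute x y) :
    y = 1 ∨ y = a ∨ y = x ∨ y = a * x := by
  by_cases hyR : y ∈ R
  · rcases h.R_sq hyR (h.sq_of_commute hx hxR hyR hc) with e | e
    · exact .inl e
    · exact .inr (.inl e)
  · have hxx : x * x = 1 := h.dih.sq_of_not_mem hx hxR
    have hm : y * x ∈ R := by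
      have h1 := (h.dih.cases y hy).resolve_left hyR
      have h2 := (h.dih.cases x hx).resolve_left hxR
      have e : y * x = (y * s) * (x * s)⁻¹ := by
        rw [mul_inv_rev, inv_eq_of_mul_eq_one_right hxx]; group
      rw [e]
      exact mul_mem h1 (inv_mem h2)
    have h2 : y * x * (y * x) = 1 := by
      calc y * x * (y * x) = y * (x * y) * x := by group
        _ = y * (y * x) * x := by rw [hc.eq]
        _ = (y * y) * (x * x) := by group
        _ = 1 := by rw [h.dih.sq_of_not_mem hy hyR, hxx, one_mul]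
    rcases h.R_sq hm h2 with e | e
    · exact .inr (.inr (.inl (by rw [mul_eq_one_iff_eq_inv, inv_eq_of_mul_eq_one_right hxx] at e; exact e)))
    · exact .inr (.inr (.inr (by rw [← e, mul_assoc, hxx, mul_one])))

/-- Every element outside `R` has a conjugate partner `a x`. -/
theorem exists_root : ∃ c ∈ R, c * c = a ∧ ∀ x ∈ A, x ∉ R → c * x * c⁻¹ = a * x := by
  obtain ⟨k, hk⟩ := IsPGroup.iff_orderOf.1 P.isPGroup' ⟨r, h.pair.leA (h.dih.le h.r_mem)⟩
  rw [Subgroup.orderOf_mk] at hk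
  obtain ⟨i, rfl⟩ : ∃ i, k = i + 2 := by
    have h4 := h.four
    rcases k with _ | _ | i
    · rw [hk] at h4; omega
    · rw [hk] at h4; omega
    · exact ⟨i, rfl⟩
  set c := r ^ (2 ^ i) with hc
  have hcR : c ∈ R := pow_mem h.r_mem _
  have hc4 : orderOf c = 2 ^ 2 := orderOf_pow_two_pow hk
  have hcc : c * c = a := by
    refine h.dih.unique_invol (mul_mem hcR hcR) h.dih.a_mem ?_ h.dih.a_ord
    rw [← pow_two, orderOf_pow' _ two_ne_zero, hc4]; norm_num
  refine ⟨c, hcR, hcc, fun x hx hxR => ?_⟩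
  have h1 := h.inv_all hx hxR hcR
  have hxc : x * c⁻¹ = c * x := by
    have h2 := h.inv_all hx hxR (inv_mem hcR)
    rw [inv_inv, mul_inv_eq_iff_eq_mul] at h2
    exact h2
  rw [mul_assoc, hxc, ← mul_assoc, hcc]

theorem exists_not_commute : ∃ x ∈ A, ∃ y ∈ A, ¬ Commute x y :=
  ⟨s, h.dih.s_mem, r, h.dih.le h.r_mem, fun hc =>
    h.r_sq_ne (h.sq_of_commute h.dih.s_mem h.dih.s_not h.r_mem hc)⟩

theorem center_cases {y : G} (hy : y ∈ A) (hc : ∀ x ∈ A, Commute x y) : y = 1 ∨ y = a := by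
  have hyR : y ∈ R := by
    by_contra hyR
    exact h.r_sq_ne (h.sq_of_commute hy hyR h.r_mem (hc r (h.dih.le h.r_mem)).symm)
  exact h.R_sq hyR (h.sq_of_commute h.dih.s_mem h.dih.s_not hyR (hc s h.dih.s_mem))

theorem a_commute_P {x : G} (hx : x ∈ (P : Subgroup G)) : Commute x a := by
  obtain ⟨u, hu, v, hv, rfl⟩ := h.pair.split hx
  exact (h.dih.a_central u hu).mul_left (h.pair.comm a h.a_mem v hv).symm

theorem mem_M_iff {u v : G} (hu : u ∈ A) (hv : v ∈ B) : u * v ∈ R ⊔ B ↔ u ∈ R := by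
  refine ⟨fun hx => ?_, fun hx => Subgroup.mul_mem_sup hx hv⟩
  obtain ⟨c, hc, b, hb, e⟩ := h.pair.mem_sup h.dih.le hx
  exact (h.pair.uniq hu (h.dih.le hc) hv hb e).1 ▸ hc

theorem M_relIndex : (R ⊔ B).relIndex (P : Subgroup G) = 2 := by
  rw [Subgroup.relIndex, Subgroup.index_eq_two_iff]
  refine ⟨⟨s, h.pair.leA h.dih.s_mem⟩, fun b => ?_⟩
  obtain ⟨u, hu, v, hv, e⟩ := h.pair.split b.2
  simp only [Subgroup.mem_subgroupOf, Subgroup.coe_mul]
  rw [e, show u * v * s = u * s * v by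
    rw [mul_assoc, ← (h.pair.comm s h.dih.s_mem v hv).eq, ← mul_assoc],
    h.mem_M_iff (mul_mem hu h.dih.s_mem) hv, h.mem_M_iff hu hv]
  rcases h.dih.cases u hu with hR | hR
  · refine .inr ⟨hR, fun hs => h.dih.s_not ?_⟩
    have := mul_mem (inv_mem hR) hs
    rwa [inv_mul_cancel_left] at this
  · refine .inl ⟨hR, fun hu' => h.dih.s_not ?_⟩
    have := mul_mem (inv_mem hu') hR
    rwa [inv_mul_cancel_left] at this

end Big

/-- Transfer: without subgroups of index two an involution outside a maximal subgroup of the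
Sylow subgroup moves into it, taking a given 2-subgroup of its centralizer into the Sylow
subgroup. -/
theorem exists_move (h2 : ∀ N : Subgroup G, N.Normal → N.index ≠ 2) (P : Sylow 2 G)
    {M : Subgroup G} (hM : M.relIndex (P : Subgroup G) = 2) {x : G} (hx : orderOf x = 2)
    {T : Subgroup G} (hT : IsPGroup 2 T) (hTx : ∀ t ∈ T, Commute t x) :
    ∃ g : G, (∀ t ∈ T, g * t * g⁻¹ ∈ (P : Subgroup G)) ∧ g * x * g⁻¹ ∈ (P : Subgroup G) ∧
      g * x * g⁻¹ ∈ M := by
  classical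
  haveI : Fact (Nat.Prime 2) := ⟨Nat.prime_two⟩
  set M' := M.subgroupOf (P : Subgroup G) with hM'
  have hi : M'.index = 2 := hM
  obtain ⟨g₁, hg₁, hgg, hgu⟩ : ∃ g₁ : Multiplicative (ZMod 2), g₁ ≠ 1 ∧ g₁ * g₁ = 1 ∧
      ∀ z : Multiplicative (ZMod 2), z ≠ 1 → z = g₁ := ⟨Multiplicative.ofAdd 1, by decide +revert, by decide +revert, by decide +revert⟩
  let φ : ↥(P : Subgroup G) →* Multiplicative (ZMod 2) :=
    MonoidHom.mk' (fun y => if y ∈ M' then 1 else g₁) fun y z => by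
      have hyz := Subgroup.mul_mem_iff_of_index_two hi (a := y) (b := z)
      by_cases ha : y ∈ M' <;> by_cases hb : z ∈ M' <;> simp_all
  have hφ : ∀ y : ↥(P : Subgroup G), φ y ≠ 1 ↔ (y : G) ∉ M := fun y => by
    show (if y ∈ M' then (1 : Multiplicative (ZMod 2)) else g₁) ≠ 1 ↔ _
    by_cases hy : y ∈ M' <;> simp_all [Subgroup.mem_subgroupOf]
  have hxx : x * x = 1 := mul_self_two hx
  set V := MonoidHom.transfer φ with hV
  have hVx : V x = 1 := by
    by_contra hne
    refine h2 V.ker inferInstance ?_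
    rw [Subgroup.index_ker]
    have hle : Nat.card V.range ≤ 2 := by
      refine (Subgroup.card_le_card_group V.range).trans (le_of_eq ?_)
      simp
    have hge : 1 < Nat.card V.range := Finite.one_lt_card_iff_nontrivial.2
      ⟨⟨⟨V x, x, rfl⟩, 1, fun e => hne (congrArg Subtype.val e)⟩⟩
    omega
  have hg₁o : orderOf g₁ = 2 := orderOf_eq_prime (by rw [pow_two]; exact hgg) hg₁
  have huniq : ∀ z : Multiplicative (ZMod 2), orderOf z = 2 → z = g₁ := by
    intro z hz
    have : z ≠ 1 := by intro e; rw [e, orderOf_one] at hz; omega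
    exact hgu z this
  have heven := Invol.even_card_of_transfer_eq_one φ hxx hVx hg₁o huniq
  have hodd := Invol.odd_card_fixed P hx
  set β : G ⧸ (P : Subgroup G) → Prop := fun q => ∃ y : G, QuotientGroup.mk y = q ∧
      ∃ hm : y⁻¹ * x * y ∈ (P : Subgroup G), φ ⟨_, hm⟩ ≠ 1
  set γ : G ⧸ (P : Subgroup G) → Prop := fun q => x • q = q ∧ ¬ β q
  have hsub : ∀ q, β q → x • q = q := by
    rintro q ⟨y, rfl, hm, -⟩
    exact Invol.smul_mk_eq_iff.2 hm
  have hγodd : Odd (Nat.card {q // γ q}) := by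
    have e : Nat.card {q : G ⧸ (P : Subgroup G) // x • q = q} =
        Nat.card {q // β q} + Nat.card {q // γ q} := by
      rw [← Nat.card_sum]
      refine Nat.card_congr ((Equiv.sumCompl fun q : {q // x • q = q} => β q.1).symm.trans
        (Equiv.sumCongr ?_ ?_))
      · exact (Equiv.subtypeSubtypeEquivSubtypeInter _ _).trans
          (Equiv.subtypeEquivRight fun q => ⟨And.right, fun hb => ⟨hsub q hb, hb⟩⟩)
      · exact Equiv.subtypeSubtypeEquivSubtypeInter (fun q => x • q = q) (fun q => ¬ β q)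
    rw [Nat.odd_iff] at hodd ⊢
    have heven' : Nat.card {q // β q} % 2 = 0 := Nat.even_iff.1 heven
    rw [e] at hodd
    omega
  have hinv : ∀ t ∈ T, ∀ q, γ q → γ (t • q) := by
    intro t ht q hq
    refine ⟨?_, fun hb => hq.2 ?_⟩
    · rw [smul_smul, ← (hTx t ht).eq, mul_smul, hq.1]
    · obtain ⟨y, hy, hm, hne⟩ := hb
      have e : (t⁻¹ * y)⁻¹ * x * (t⁻¹ * y) = y⁻¹ * x * y := by
        calc (t⁻¹ * y)⁻¹ * x * (t⁻¹ * y) = y⁻¹ * (t * x * t⁻¹) * y := by group
          _ = y⁻¹ * x * y := by rw [(hTx t ht).eq, mul_inv_cancel_right]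
      refine ⟨t⁻¹ * y, ?_, e.symm ▸ hm, ?_⟩
      · rw [← smul_eq_mul, ← MulAction.Quotient.smul_mk, hy, inv_smul_smul]
      · convert hne using 3
  have hmod := Invol.card_invariant_modEq hT γ hinv
  obtain ⟨⟨q, hq, hfix⟩⟩ : Nonempty {q // γ q ∧ ∀ t ∈ T, t • q = q} := by
    refine (Nat.card_pos_iff.1 ?_).1
    rw [Nat.odd_iff] at hγodd
    rcases Nat.eq_zero_or_pos (Nat.card {q // γ q ∧ ∀ t ∈ T, t • q = q}) with e | e
    · rw [e, Nat.ModEq, hγodd] at hmod; omega
    · exact e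
  obtain ⟨y, rfl⟩ := QuotientGroup.mk_surjective q
  have hm : y⁻¹ * x * y ∈ (P : Subgroup G) := Invol.smul_mk_eq_iff.1 hq.1
  refine ⟨y⁻¹, fun t ht => ?_, by rwa [inv_inv], ?_⟩
  · rw [inv_inv]; exact Invol.smul_mk_eq_iff.1 (hfix t ht)
  · rw [inv_inv]
    by_contra hne
    exact hq.2 ⟨y, rfl, hm, (hφ _).2 hne⟩

/-- A normalizing element moves a point fixed by the Sylow subgroup in an orbit of odd length. -/
theorem odd_orbit {α : Type*} [MulAction G α] [Finite α] (P : Sylow 2 G) (N : Subgroup G)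
    (hN : (P : Subgroup G) ≤ N) (z : α) (hz : ∀ p ∈ (P : Subgroup G), p • z = z) :
    Odd (Nat.card (MulAction.orbit N z)) := by
  haveI : Fact (Nat.Prime 2) := ⟨Nat.prime_two⟩
  rw [Nat.card_congr (MulAction.orbitEquivQuotientStabilizer N z), ← Subgroup.index_eq_card,
    Nat.odd_iff, ← Nat.two_dvd_ne_zero]
  intro hd
  have hle : (P : Subgroup G).subgroupOf N ≤ MulAction.stabilizer N z := fun p hp =>
    hz p (Subgroup.mem_subgroupOf.1 hp)
  exact P.not_dvd_index (hd.trans ((Subgroup.index_dvd_of_le hle).trans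
    (Subgroup.relIndex_dvd_index_of_le hN)))

end Cfsg.Agent.ProdFus.Split
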