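import Cfsg.Agent.Lib.Transfer.Product.Split.Central
import Cfsg.Agent.Lib.Transfer.Product.Split.Closed
import Cfsg.Agent.Lib.Transfer.Product.Split.Twist

/-!
# Two dihedral factors of order at least eight
-/

set_option linter.unusedSectionVars false
set_option linter.style.haveILetI false

namespace Cfsg.Agent.ProdFus.Split

open Cfsg

universe u

variable {G : Type u} [Group G] [Finite G]

theorem eq_one_or_eq_of_mem_zpowers {b u : G} (hb : b * b = 1) (hu : u ∈ Subgroup.zpowers b) :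
    u = 1 ∨ u = b := by
  obtain ⟨i, rfl⟩ := Subgroup.mem_zpowers_iff.1 hu
  rcases Int.even_or_odd' i with ⟨j, rfl | rfl⟩
  · exact .inl (by rw [zpow_mul, zpow_two, hb, one_zpow])
  · exact .inr (by rw [zpow_add, zpow_mul, zpow_two, hb, one_zpow, zpow_one, one_mul])

/-- A subgroup with two generating sets of data: the pair of big factors. -/
structure Two (P : Sylow 2 G) (A B R R' : Subgroup G) (r s a r' s' b : G) : Prop where
  left : Big P A B R r s a
  right : Big P B A R' r' s' b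

namespace Two

variable {P : Sylow 2 G} {A B R R' : Subgroup G} {r s a r' s' b : G}
  (T : Two P A B R R' r s a r' s' b)
include T

theorem symm : Two P B A R' R r' s' b r s a := ⟨T.right, T.left⟩

theorem a_ne_b : a ≠ b := fun e =>
  T.left.a_ne (T.left.pair.eq_one_of_mem T.left.a_mem (e ▸ T.right.a_mem))

theorem ab_comm : a * b = b * a := (T.left.pair.comm a T.left.a_mem b T.right.a_mem).eq

theorem ab_ne_one : a * b ≠ 1 := fun e =>
  T.left.a_ne ((T.left.pair.eq_one_iff T.left.a_mem T.right.a_mem).1 e).1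

theorem ab_ne_b : a * b ≠ b := fun e => T.left.a_ne (mul_eq_right.1 e)

theorem ab_ne_a : a * b ≠ a := fun e => T.right.a_ne (mul_eq_left.1 e)

theorem a_sq : a * a = 1 := mul_self_two T.left.dih.a_ord

theorem b_sq : b * b = 1 := mul_self_two T.right.dih.a_ord

theorem central_a {p : G} (hp : p ∈ (P : Subgroup G)) : Commute p a := T.left.a_commute_P hp

theorem central_b {p : G} (hp : p ∈ (P : Subgroup G)) : Commute p b := T.right.a_commute_P hp

theorem central_ab {p : G} (hp : p ∈ (P : Subgroup G)) : Commute p (a * b) :=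
  (T.central_a hp).mul_right (T.central_b hp)

theorem center {z : G} (hz : z ∈ (P : Subgroup G)) (hc : ∀ p ∈ (P : Subgroup G), Commute p z) :
    z = 1 ∨ z = a ∨ z = b ∨ z = a * b := by
  obtain ⟨u, hu, v, hv, rfl⟩ := T.left.pair.split hz
  have h1 : ∀ x ∈ A, Commute x u := fun x hx => by
    have := hc (x * 1) (T.left.pair.mul_mem' hx (one_mem B))
    exact ((T.left.pair.commute_iff hx (one_mem B) hu hv).1 this).1
  have h2 : ∀ x ∈ B, Commute x v := fun x hx => by
    have := hc (1 * x) (T.left.pair.mul_mem' (one_mem A) hx)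
    exact ((T.left.pair.commute_iff (one_mem A) hx hu hv).1 this).2
  rcases T.left.center_cases hu h1 with e | e <;> rcases T.right.center_cases hv h2 with e' | e' <;>
    simp [e, e']

/-- Elements squaring to `ab` have abelian centralizers in the Sylow subgroup. -/
theorem comm_of_root {x p q : G} (hx : x ∈ (P : Subgroup G)) (e : x * x = a * b)
    (hp : p ∈ (P : Subgroup G)) (hq : q ∈ (P : Subgroup G)) (hpx : Commute p x)
    (hqx : Commute q x) : Commute p q := by
  have h := T.left.pair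
  obtain ⟨u, hu, v, hv, rfl⟩ := h.split hx
  rw [h.sq hu hv] at e
  obtain ⟨h1, h2⟩ := h.uniq (mul_mem hu hu) T.left.a_mem (mul_mem hv hv) T.right.a_mem e
  have hu2 : u * u ≠ 1 := h1 ▸ T.left.a_ne
  have hv2 : v * v ≠ 1 := h2 ▸ T.right.a_ne
  have key : ∀ {p : G}, p ∈ (P : Subgroup G) → Commute p (u * v) →
      ∃ α ∈ R, ∃ β ∈ R', p = α * β := by
    intro p hp hc
    obtain ⟨α, hα, β, hβ, rfl⟩ := h.split hp
    obtain ⟨c1, c2⟩ := (h.commute_iff hα hβ hu hv).1 hc
    exact ⟨α, by_contra fun hR => hu2 (T.left.sq_of_commute hα hR (T.left.dih.mem_of_sq_ne hu hu2) c1),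
      β, by_contra fun hR => hv2 (T.right.sq_of_commute hβ hR (T.right.dih.mem_of_sq_ne hv hv2) c2),
      rfl⟩
  obtain ⟨α, hα, β, hβ, rfl⟩ := key hp hpx
  obtain ⟨α', hα', β', hβ', rfl⟩ := key hq hqx
  exact (h.commute_iff (T.left.dih.le hα) (T.right.dih.le hβ) (T.left.dih.le hα')
    (T.right.dih.le hβ')).2 ⟨T.left.R_comm hα hα', T.right.R_comm hβ hβ'⟩

theorem conj_a_ne_ab {n : G} (hn : n ∈ Subgroup.normalizer (P : Set G)) :
    n * a * n⁻¹ ≠ a * b := by
  intro e
  obtain ⟨c, hc, hca, -⟩ := T.left.exists_root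
  obtain ⟨x, hx, y, hy, hxy⟩ := T.right.exists_not_commute
  have hm : ∀ {z : G}, z ∈ (P : Subgroup G) → n * z * n⁻¹ ∈ (P : Subgroup G) := fun hz =>
    (Subgroup.mem_normalizer_iff.1 hn _).1 hz
  have := T.comm_of_root (hm (T.left.pair.leA (T.left.dih.le hc)))
    (by rw [← conj_mul', hca, e]) (hm (T.left.pair.leB hx)) (hm (T.left.pair.leB hy))
    (commute_conj n (T.left.pair.comm c (T.left.dih.le hc) x hx).symm)
    (commute_conj n (T.left.pair.comm c (T.left.dih.le hc) y hy).symm)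
  have := commute_conj n⁻¹ this
  refine hxy ?_
  simpa [mul_assoc] using this

theorem normalizer_fix {n : G} (hn : n ∈ Subgroup.normalizer (P : Set G)) :
    n * a * n⁻¹ = a ∧ n * b * n⁻¹ = b := by
  have hcases : ∀ {z : G}, z ∈ (P : Subgroup G) → (∀ p ∈ (P : Subgroup G), Commute p z) →
      z ≠ 1 → n * z * n⁻¹ = a ∨ n * z * n⁻¹ = b ∨ n * z * n⁻¹ = a * b := by
    intro z hz hc hz1
    refine (T.center ((Subgroup.mem_normalizer_iff.1 hn _).1 hz) fun p hp => ?_).resolve_left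
      fun e => hz1 (conj_eq_one_iff.1 e)
    have hp' : n⁻¹ * p * n ∈ (P : Subgroup G) := (Subgroup.mem_normalizer_iff''.1 hn _).1 hp
    have := commute_conj n (hc _ hp')
    rwa [show n * (n⁻¹ * p * n) * n⁻¹ = p by group] at this
  have hb' : n * b * n⁻¹ ≠ a * b := T.ab_comm ▸ T.symm.conj_a_ne_ab hn
  rcases (hcases (T.left.pair.leA T.left.a_mem) (fun p hp => T.central_a hp) T.left.a_ne) with
    ea | ea | ea
  · rcases (hcases (T.left.pair.leB T.right.a_mem) (fun p hp => T.central_b hp) T.right.a_ne) with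
      eb | eb | eb
    · exact absurd (mul_left_cancel (mul_right_cancel (eb.trans ea.symm))) T.a_ne_b.symm
    · exact ⟨ea, eb⟩
    · exact absurd eb hb'
  · rcases (hcases (T.left.pair.leB T.right.a_mem) (fun p hp => T.central_b hp) T.right.a_ne) with
      eb | eb | eb
    · exact absurd (eq_of_swap hn (fun p hp => T.central_a hp) ea eb) T.a_ne_b
    · exact absurd (mul_left_cancel (mul_right_cancel (eb.trans ea.symm))) T.a_ne_b.symm
    · exact absurd eb hb'
  · exact absurd ea (T.conj_a_ne_ab hn)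

theorem central_fusion {z z' g : G} (hz : z = a ∨ z = b ∨ z = a * b)
    (hz' : z' = a ∨ z' = b ∨ z' = a * b) (e : g * z * g⁻¹ = z') : z' = z := by
  haveI : Fact (Nat.Prime 2) := ⟨Nat.prime_two⟩
  have hc : ∀ {w : G}, (w = a ∨ w = b ∨ w = a * b) →
      ∀ p ∈ (P : Subgroup G), Commute p w := by
    rintro w (rfl | rfl | rfl) p hp
    exacts [T.central_a hp, T.central_b hp, T.central_ab hp]
  obtain ⟨n, hn, e'⟩ :=
    Transfer.exists_normalizer_conj_elem P (hc hz) (g := g) (by rw [e]; exact hc hz')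
  obtain ⟨na, nb⟩ := T.normalizer_fix hn
  rw [← e, ← e']
  rcases hz with rfl | rfl | rfl
  · exact na
  · exact nb
  · rw [conj_mul', na, nb]

theorem not_conj_ab : ¬ IsConj a (a * b) := fun hc => by
  obtain ⟨g, e⟩ := isConj_iff.1 hc
  exact T.ab_ne_a (T.central_fusion (.inl rfl) (.inr (.inr rfl)) e)

theorem not_conj_b : ¬ IsConj a b := fun hc => by
  obtain ⟨g, e⟩ := isConj_iff.1 hc
  exact T.a_ne_b (T.central_fusion (.inl rfl) (.inr (.inl rfl)) e).symm

/-- An element moving `B` into the Sylow subgroup fixes `b`. -/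
theorem fix_b {g : G} (hg : ∀ y ∈ B, g * y * g⁻¹ ∈ (P : Subgroup G)) : g * b * g⁻¹ = b := by
  obtain ⟨c, hc, hcb, -⟩ := T.right.exists_root
  have hcB := T.right.dih.le hc
  obtain ⟨u, hu, v, hv, e⟩ := T.left.pair.split (hg c hcB)
  have h2 : u * u * (v * v) = g * b * g⁻¹ := by
    rw [← T.left.pair.sq hu hv, ← e, ← conj_mul', hcb]
  have h4 : u * u * (u * u) = 1 ∧ v * v * (v * v) = 1 := by
    refine (T.left.pair.eq_one_iff (mul_mem (mul_mem hu hu) (mul_mem hu hu))
      (mul_mem (mul_mem hv hv) (mul_mem hv hv))).1 ?_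
    rw [← T.left.pair.sq (mul_mem hu hu) (mul_mem hv hv), h2, ← conj_mul', T.b_sq, mul_one,
      mul_inv_cancel]
  have hu2 : u * u = 1 ∨ u * u = a := by
    by_cases hR : u ∈ R
    · exact T.left.R_sq (mul_mem hR hR) h4.1
    · exact .inl (T.left.dih.sq_of_not_mem hu hR)
  have hv2 : v * v = 1 ∨ v * v = b := by
    by_cases hR : v ∈ R'
    · exact T.right.R_sq (mul_mem hR hR) h4.2
    · exact .inl (T.right.dih.sq_of_not_mem hv hR)
  have hne : g * b * g⁻¹ ≠ 1 := fun e => T.right.a_ne (conj_eq_one_iff.1 e)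
  refine (T.central_fusion (.inr (.inl rfl)) ?_ rfl : g * b * g⁻¹ = b)
  rw [← h2] at hne ⊢
  rcases hu2 with eu | eu <;> rcases hv2 with ev | ev <;> rw [eu, ev] at hne ⊢
  · exact absurd (mul_one 1) hne
  · exact .inr (.inl (one_mul b))
  · exact .inl (mul_one a)
  · exact .inr (.inr rfl)

/-- A reflection of `A` moves to `a` or to `ab` by an element fixing `b`. -/
theorem refl_move (h2 : ∀ N : Subgroup G, N.Normal → N.index ≠ 2) {x : G} (hx : x ∈ A)
    (hxR : x ∉ R) : ∃ g : G, (∀ y ∈ B, g * y * g⁻¹ ∈ (P : Subgroup G)) ∧ g * b * g⁻¹ = b ∧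
      (g * x * g⁻¹ = a ∨ g * x * g⁻¹ = a * b) := by
  have hx1 : x ≠ 1 := fun e => hxR (e ▸ one_mem R)
  have hxo : orderOf x = 2 := orderOf_two (T.left.dih.sq_of_not_mem hx hxR) hx1
  obtain ⟨g, hgB, hgP, hgM⟩ := exists_move h2 P T.left.M_relIndex hxo
    (P.isPGroup'.to_le T.left.pair.leB) (fun t ht => (T.left.pair.comm x hx t ht).symm)
  have hgb := T.fix_b hgB
  obtain ⟨α, hα, β, hβ, e⟩ := T.left.pair.mem_sup T.left.dih.le hgM
  have hαA := T.left.dih.le hα
  obtain ⟨c, hc, hcb, -⟩ := T.right.exists_root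
  obtain ⟨γ, hγ, δ, hδ, e'⟩ := T.left.pair.split (hgB c (T.right.dih.le hc))
  have h2' : γ * γ = 1 ∧ δ * δ = b := by
    refine T.left.pair.uniq (mul_mem hγ hγ) (one_mem A) (mul_mem hδ hδ) T.right.a_mem ?_
    rw [← T.left.pair.sq hγ hδ, ← e', ← conj_mul', hcb, hgb, one_mul]
  have hδ2 : δ * δ ≠ 1 := h2'.2.symm ▸ T.right.a_ne
  have hcomm : Commute β δ := by
    have h1 := commute_conj g (T.left.pair.comm x hx c (T.right.dih.le hc))
    rw [e, e'] at h1
    exact ((T.left.pair.commute_iff hαA hβ hγ hδ).1 h1).2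
  have hβR : β ∈ R' := by_contra fun hR =>
    hδ2 (T.right.sq_of_commute hβ hR (T.right.dih.mem_of_sq_ne hδ hδ2) hcomm)
  have hsq : α * α = 1 ∧ β * β = 1 := by
    refine (T.left.pair.eq_one_iff (mul_mem hαA hαA) (mul_mem hβ hβ)).1 ?_
    rw [← T.left.pair.sq hαA hβ, ← e, ← conj_mul', T.left.dih.sq_of_not_mem hx hxR, mul_one,
      mul_inv_cancel]
  have hne : g * x * g⁻¹ ≠ 1 := fun e => hx1 (conj_eq_one_iff.1 e)
  have hneb : g * x * g⁻¹ ≠ b := fun e1 => by
    have : x = b := mul_left_cancel (mul_right_cancel (e1.trans hgb.symm))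
    exact hx1 (T.left.pair.eq_one_of_mem hx (this ▸ T.right.a_mem))
  refine ⟨g, hgB, hgb, ?_⟩
  rw [e] at hne hneb ⊢
  rcases T.left.R_sq hα hsq.1 with ea | ea <;> rcases T.right.R_sq hβR hsq.2 with eb | eb <;>
    rw [ea, eb] at hne hneb ⊢
  · exact absurd (mul_one 1) hne
  · exact absurd (one_mul b) hneb
  · exact .inl (mul_one a)
  · exact .inr rfl

theorem exists_class (h2 : ∀ N : Subgroup G, N.Normal → N.index ≠ 2) {x : G} (hx : x ∈ A)
    (hxR : x ∉ R) : ∃ u ∈ Subgroup.zpowers b, IsConj (x * u) a := by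
  obtain ⟨g, -, hgb, e | e⟩ := T.refl_move h2 hx hxR
  · exact ⟨1, one_mem _, by rw [mul_one]; exact isConj_iff.2 ⟨g, e⟩⟩
  · exact ⟨b, Subgroup.mem_zpowers b, isConj_iff.2 ⟨g, by
      rw [conj_mul', e, hgb, mul_assoc, T.b_sq, mul_one]⟩⟩

section Normalised

variable (h2 : ∀ N : Subgroup G, N.Normal → N.index ≠ 2)
  (IA : ∀ x ∈ A, orderOf x = 2 → IsConj x a) (IB : ∀ x ∈ B, orderOf x = 2 → IsConj x b)
include h2 IA

theorem refl_to_a {x : G} (hx : x ∈ A) (hxR : x ∉ R) :
    ∃ g : G, (∀ y ∈ B, g * y * g⁻¹ ∈ (P : Subgroup G)) ∧ g * b * g⁻¹ = b ∧ g * x * g⁻¹ = a := by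
  obtain ⟨g, hgB, hgb, e | e⟩ := T.refl_move h2 hx hxR
  · exact ⟨g, hgB, hgb, e⟩
  · exact absurd ((IA x hx (orderOf_two (T.left.dih.sq_of_not_mem hx hxR)
      fun e1 => hxR (e1 ▸ one_mem R))).symm.trans (isConj_iff.2 ⟨g, e⟩)) T.not_conj_ab

omit h2 IA in
theorem cases_invol {x : G} (hx : x ∈ A) (h2 : orderOf x = 2) : x = a ∨ x ∉ R :=
  (em (x ∈ R)).imp_left fun hR =>
    (T.left.R_sq hR (mul_self_two h2)).resolve_left (Invol.ne_one_of_orderOf_two h2)

include IB

/-- A product of involutions of the two factors is not conjugate to `a`. -/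
theorem prod_not_conj {t v : G} (ht : t ∈ A) (ht2 : orderOf t = 2) (hv : v ∈ B)
    (hv2 : orderOf v = 2) : ¬ IsConj (t * v) a := by
  have hab : ¬ IsConj (a * b) a := fun e => T.not_conj_ab e.symm
  have hbt : ∀ {t : G}, t ∈ A → orderOf t = 2 → IsConj (t * b) (a * b) := by
    intro t ht ht2
    rcases T.cases_invol ht ht2 with rfl | hR
    · exact IsConj.refl _
    · obtain ⟨g, -, hgb, e⟩ := T.refl_to_a h2 IA ht hR
      exact isConj_iff.2 ⟨g, by rw [conj_mul', e, hgb]⟩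
  have hat : ∀ {v : G}, v ∈ B → orderOf v = 2 → IsConj (a * v) (a * b) := by
    intro v hv hv2
    rcases T.symm.cases_invol hv hv2 with rfl | hR
    · exact IsConj.refl _
    · obtain ⟨g, -, hga, e⟩ := T.symm.refl_to_a h2 IB hv hR
      exact isConj_iff.2 ⟨g, by rw [conj_mul', e, hga]⟩
  intro hc
  rcases T.cases_invol ht ht2 with rfl | htR
  · exact hab ((hat hv hv2).symm.trans hc)
  obtain ⟨g, hgB, -, ega⟩ := T.refl_to_a h2 IA ht htR
  obtain ⟨α, hα, β, hβ, e⟩ := T.left.pair.split (hgB v hv)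
  have h1 : IsConj (t * v) (a * α * β) := isConj_iff.2 ⟨g, by rw [conj_mul', ega, e, mul_assoc]⟩
  have hq : IsConj (α * β) b := (isConj_iff.2 ⟨g, e⟩ : IsConj v (α * β)).symm.trans (IB v hv hv2)
  have hsq : α * α = 1 ∧ β * β = 1 := by
    refine (T.left.pair.eq_one_iff (mul_mem hα hα) (mul_mem hβ hβ)).1 ?_
    rw [← T.left.pair.sq hα hβ, ← e, ← conj_mul', mul_self_two hv2, mul_one, mul_inv_cancel]
  have hc' : IsConj (a * α * β) a := h1.symm.trans hc
  by_cases hβ1 : β = 1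
  · by_cases hα1 : α = 1
    · rw [hα1, hβ1, mul_one] at hq
      exact T.right.a_ne (isConj_one_right.1 hq)
    · rw [hβ1, mul_one] at hq
      exact T.not_conj_b ((IA α hα (orderOf_two hsq.1 hα1)).symm.trans hq)
  by_cases hα1 : α = 1
  · rw [hα1, mul_one] at hc'
    exact hab ((hat hβ (orderOf_two hsq.2 hβ1)).symm.trans hc')
  refine T.not_conj_b ((hc'.symm.trans ?_).trans hq)
  rcases T.cases_invol hα (orderOf_two hsq.1 hα1) with rfl | hR
  · rw [T.a_sq, one_mul]
    exact (IB β hβ (orderOf_two hsq.2 hβ1)).trans hq.symm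
  · obtain ⟨c, hcR, -, hc⟩ := T.left.exists_root
    refine (isConj_iff.2 ⟨c, ?_⟩).symm
    rw [conj_mul', hc α hα hR, (T.left.pair.comm c (T.left.dih.le hcR) β hβ).eq,
      mul_inv_cancel_right]

theorem involClosed : InvolClosed P A := by
  intro x hx hx2 g hg
  obtain ⟨t, ht, v, hv, e⟩ := T.left.pair.split hg
  have hq : IsConj (t * v) a :=
    (isConj_iff.2 ⟨g, e⟩ : IsConj x (t * v)).symm.trans (IA x hx hx2)
  have hsq : t * t = 1 ∧ v * v = 1 := by
    refine (T.left.pair.eq_one_iff (mul_mem ht ht) (mul_mem hv hv)).1 ?_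
    rw [← T.left.pair.sq ht hv, ← e, ← conj_mul', mul_self_two hx2, mul_one, mul_inv_cancel]
  by_cases hv1 : v = 1
  · rw [e, hv1, mul_one]; exact ht
  exfalso
  by_cases ht1 : t = 1
  · rw [ht1, one_mul] at hq
    exact T.not_conj_b (hq.symm.trans (IB v hv (orderOf_two hsq.2 hv1)))
  · exact T.prod_not_conj h2 IA IB ht (orderOf_two hsq.1 ht1) hv (orderOf_two hsq.2 hv1) hq

omit IA IB in
theorem fix_R {n : G} (hQ : ∀ y ∈ R ⊔ B, n * y * n⁻¹ ∈ R ⊔ B) (hB : ∀ y ∈ B, n * y * n⁻¹ ∈ B) :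
    n * r * n⁻¹ ∈ R := by
  have hL := T.left
  have hBc : ∀ z ∈ B, (∀ y ∈ B, Commute y z) → z * z = 1 := fun z hz hc => by
    rcases T.right.center_cases hz hc with rfl | rfl
    · exact mul_one 1
    · exact T.b_sq
  set O := {K : Subgroup G | ∃ n : G, (∀ y ∈ R ⊔ B, n * y * n⁻¹ ∈ R ⊔ B) ∧
      (∀ y ∈ B, n * y * n⁻¹ ∈ B) ∧ R.map (MulAut.conj n).toMonoidHom = K} with hO
  have hR : R = Subgroup.zpowers (r * 1) := by rw [mul_one]; exact hL.dih.gen
  have hsub : O ⊆ {R, Subgroup.zpowers (r * b)} := by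
    rintro K ⟨m, hmQ, hmB, rfl⟩
    obtain ⟨i, hi, β, hβ, hb, hc, e⟩ := hL.image_r hBc hmQ hmB
    rw [hL.map_R hi hβ hb e]
    rcases T.right.center_cases hβ hc with rfl | rfl
    · exact .inl hR.symm
    · exact .inr rfl
  have hRO : R ∈ O := ⟨1, fun y hy => by simpa using hy, fun y hy => by simpa using hy, by
    refine Subgroup.ext fun y => ?_
    simp [Subgroup.mem_map]⟩
  obtain ⟨i, hi, β, hβ, hb, hc, e⟩ := hL.image_r hBc hQ hB
  have hK : Subgroup.zpowers (r * β) ∈ O := ⟨n, hQ, hB, hL.map_R hi hβ hb e⟩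
  rcases T.right.center_cases hβ hc with hβ1 | hβ1
  · rw [e, hβ1, mul_one]; exact zpow_mem hL.r_mem i
  · exfalso
    rw [hβ1] at hK
    have hne : R ≠ Subgroup.zpowers (r * b) := fun e => by
      have := hL.line_inj T.right.a_mem (one_mem B) T.b_sq (hR.symm.trans e)
      exact T.right.a_ne this.symm
    have hOeq : O = {R, Subgroup.zpowers (r * b)} :=
      hsub.antisymm (Set.insert_subset hRO (Set.singleton_subset_iff.2 hK))
    have hodd := hL.odd_orbit_R
    rw [← hO, hOeq, Set.ncard_pair hne] at hodd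
    exact (Nat.not_odd_iff_even.2 even_two) hodd

theorem stronglyClosed : IsStronglyClosed A (P : Subgroup G) := by
  refine T.left.stronglyClosed (T.involClosed h2 IA IB) (T.symm.involClosed h2 IB IA) T.right.gens
    ?_ ?_ fun n hQ hB => T.fix_R h2 hQ hB
  · intro v hv hv2 y hy
    have hR := T.right.dih.mem_of_sq_ne hv hv2
    rcases T.right.R_sq (pow_mem hR (orderOf v / 2)) (by
      rw [← pow_add]
      refine orderOf_dvd_iff_pow_eq_one.1 ?_
      haveI : Fact (Nat.Prime 2) := ⟨Nat.prime_two⟩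
      obtain ⟨k, hk⟩ := IsPGroup.iff_orderOf.1 P.isPGroup' ⟨v, T.left.pair.leB hv⟩
      rw [Subgroup.orderOf_mk] at hk
      rcases k with _ | k
      · rw [pow_zero, orderOf_eq_one_iff] at hk; exact absurd (by rw [hk, mul_one]) hv2
      · exact ⟨1, by rw [hk, pow_succ, Nat.mul_div_cancel _ two_pos]; ring⟩) with e | e
    · rw [e]; exact Commute.one_right y
    · rw [e]; exact T.right.dih.a_central y hy
  · intro v hv hv2 ⟨y, hy, hyv⟩
    have hR : v ∉ R' := fun hR => by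
      rcases T.right.R_sq hR hv2 with e | e <;> rw [e] at hyv
      · exact hyv (Commute.one_right y)
      · exact hyv (T.right.dih.a_central y hy)
    obtain ⟨g, hgA, -, e⟩ := T.symm.refl_to_a h2 IB hv hR
    exact ⟨g, hgA, e ▸ T.right.a_mem, fun y hy => e ▸ T.right.dih.a_central y hy⟩

end Normalised

end Two

/-- Two big dihedral factors can be chosen strongly closed. -/
theorem exists_prod_of_both (h2 : ∀ N : Subgroup G, N.Normal → N.index ≠ 2) {P : Sylow 2 G}
    {A B R R' : Subgroup G} {r s a r' s' b : G} {m m' : ℕ} (hm : 2 ∣ m) (hm' : 2 ∣ m')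
    (T : Two P A B R R' r s a r' s' b) (e : A ≃* DihedralGroup m) (e' : B ≃* DihedralGroup m') :
    ∃ A' B' : Subgroup G, Prod P A' B' ∧ Nonempty (A' ≃* DihedralGroup m) ∧
      Nonempty (B' ≃* DihedralGroup m') := by
  have hZ : ∀ {C D : Subgroup G} {R S : Subgroup G} {r s a r' s' b : G},
      Two P C D R S r s a r' s' b → Subgroup.zpowers b ≤ D ∧
        (∀ z ∈ Subgroup.zpowers b, ∀ y ∈ D, Commute y z) ∧
        ∀ z ∈ Subgroup.zpowers b, z * z = 1 := fun {C D R S r s a r' s' b} U => by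
    refine ⟨Subgroup.zpowers_le.2 U.right.a_mem, fun z hz y hy => ?_, fun z hz => ?_⟩ <;>
      rcases eq_one_or_eq_of_mem_zpowers U.b_sq hz with rfl | rfl
    · exact Commute.one_right y
    · exact U.right.dih.a_central y hy
    · exact mul_one 1
    · exact U.b_sq
  obtain ⟨hz1, hz2, hz3⟩ := hZ T
  obtain ⟨A₁, R₁, r₁, s₁, hA₁, ⟨eA⟩, IA⟩ :=
    T.left.exists_twist hm e (Subgroup.zpowers b) hz1 hz2 hz3 (fun x hx hR => T.exists_class h2 hx hR)
  have T₁ : Two P A₁ B R₁ R' r₁ s₁ a r' s' b :=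
    ⟨hA₁, { pair := hA₁.pair.swap, dih := T.right.dih, four := T.right.four, gens := T.right.gens }⟩
  obtain ⟨hy1, hy2, hy3⟩ := hZ T₁.symm
  obtain ⟨B₁, R'₁, r'₁, s'₁, hB₁, ⟨eB⟩, IB⟩ := T₁.right.exists_twist hm' e' (Subgroup.zpowers a)
    hy1 hy2 hy3 (fun x hx hR => T₁.symm.exists_class h2 hx hR)
  have T₂ : Two P A₁ B₁ R₁ R'₁ r₁ s₁ a r'₁ s'₁ b :=
    ⟨{ pair := hB₁.pair.swap, dih := hA₁.dih, four := hA₁.four, gens := hA₁.gens }, hB₁⟩
  have h := T₂.left.pair
  exact ⟨A₁, B₁, ⟨T₂.stronglyClosed h2 IA IB, T₂.symm.stronglyClosed h2 IB IA, h.comm, h.disj, h.sup⟩,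
    ⟨eA⟩, ⟨eB⟩⟩

end Cfsg.Agent.ProdFus.Split
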