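import Cfsg.Agent.Lib.Transfer.Product.Split.Central

/-!
# A dihedral factor times a four group: the invariant four group
-/

set_option linter.unusedSectionVars false
set_option linter.style.haveILetI false

namespace Cfsg.Agent.ProdFus.Split

open Cfsg

universe u

variable {G : Type u} [Group G] [Finite G] {P : Sylow 2 G} {A W R : Subgroup G} {r s a w₁ w₂ : G}

/-- A complement four group to the dihedral factor, invariant and moved transitively by the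
normalizer of the Sylow subgroup. -/
structure FourData (P : Sylow 2 G) (A W R : Subgroup G) (r s a w₁ w₂ : G) : Prop where
  big : Big P A W R r s a
  mem₁ : w₁ ∈ W
  mem₂ : w₂ ∈ W
  ne₁ : w₁ ≠ 1
  ne₂ : w₂ ≠ 1
  ne₁₂ : w₁ ≠ w₂
  cover : ∀ w ∈ W, w = 1 ∨ w = w₁ ∨ w = w₂ ∨ w = w₁ * w₂
  sq : ∀ w ∈ W, w * w = 1
  stable : ∀ n ∈ Subgroup.normalizer (P : Set G), ∀ w ∈ W, n * w * n⁻¹ ∈ W
  move : ∃ n ∈ Subgroup.normalizer (P : Set G), n * w₁ * n⁻¹ = w₂

namespace Big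

variable {B : Subgroup G} (h : Big P A B R r s a)
include h

theorem center_of_four (hB2 : ∀ x ∈ B, x * x = 1) {z : G} (hz : z ∈ (P : Subgroup G))
    (hc : ∀ p ∈ (P : Subgroup G), Commute p z) : ∃ β ∈ B, z = β ∨ z = a * β := by
  obtain ⟨u, hu, v, hv, rfl⟩ := h.pair.split hz
  refine ⟨v, hv, ?_⟩
  rcases h.center_cases hu fun x hx => by
    have := hc (x * 1) (h.pair.mul_mem' hx (one_mem B))
    exact ((h.pair.commute_iff hx (one_mem B) hu hv).1 this).1 with e | e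
  · exact .inl (by rw [e, one_mul])
  · exact .inr (by rw [e])

theorem central_B (hB2 : ∀ x ∈ B, x * x = 1) {p β : G} (hp : p ∈ (P : Subgroup G)) (hβ : β ∈ B) :
    Commute p β := by
  obtain ⟨u, hu, v, hv, rfl⟩ := h.pair.split hp
  refine (h.pair.comm u hu β hβ).mul_left ?_
  have hinv : ∀ {x : G}, x ∈ B → x⁻¹ = x := fun hx => inv_eq_of_mul_eq_one_right (hB2 _ hx)
  calc v * β = (v * β)⁻¹ := (hinv (mul_mem hv hβ)).symm
    _ = β * v := by rw [mul_inv_rev, hinv hv, hinv hβ]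

theorem fix_a (hB2 : ∀ x ∈ B, x * x = 1) {n : G} (hn : n ∈ Subgroup.normalizer (P : Set G)) :
    n * a * n⁻¹ = a := by
  obtain ⟨c, hc, hca, -⟩ := h.exists_root
  obtain ⟨u, hu, v, hv, e⟩ := h.pair.split ((Subgroup.mem_normalizer_iff.1 hn c).1
    (h.pair.leA (h.dih.le hc)))
  have e2 : n * a * n⁻¹ = u * u := by
    rw [← hca, conj_mul', e, h.pair.sq hu hv, hB2 v hv, mul_one]
  by_cases huR : u ∈ R
  · rcases h.R_sq (mul_mem huR huR) (by
      rw [← e2, ← conj_mul', mul_self_two h.dih.a_ord, mul_one, mul_inv_cancel]) with e3 | e3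
    · exact absurd (conj_eq_one_iff.1 (e2.trans e3)) h.a_ne
    · exact e2.trans e3
  · exact absurd (conj_eq_one_iff.1 (e2.trans (h.dih.sq_of_not_mem hu huR))) h.a_ne

theorem no_swap (hB2 : ∀ x ∈ B, x * x = 1) {n β : G}
    (hn : n ∈ Subgroup.normalizer (P : Set G)) (hβ : β ∈ B) :
    n * β * n⁻¹ ≠ a * β := by
  intro e
  refine h.a_ne ?_
  have e2 : n * (a * β) * n⁻¹ = β := by
    rw [conj_mul', h.fix_a hB2 hn, e, ← mul_assoc, mul_self_two h.dih.a_ord, one_mul]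
  exact mul_eq_right.1 (eq_of_swap hn (fun p hp => h.central_B hB2 hp hβ) e e2).symm

theorem move_four (h2 : ∀ N : Subgroup G, N.Normal → N.index ≠ 2) (hB2 : ∀ x ∈ B, x * x = 1)
    {b c : G} (hb : b ∈ B) (hc : c ∈ B) (hb1 : b ≠ 1) (hcb : c ≠ b) (hc1 : c ≠ 1)
    (hcov : ∀ x ∈ B, x = 1 ∨ x = b ∨ x = c ∨ x = b * c) :
    ∃ n ∈ Subgroup.normalizer (P : Set G), n * b * n⁻¹ = c ∨ n * b * n⁻¹ = a * c := by
  haveI : Fact (Nat.Prime 2) := ⟨Nat.prime_two⟩
  have hcc := hB2 c hc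
  set M := A ⊔ Subgroup.zpowers c with hM
  have hcle : Subgroup.zpowers c ≤ B := Subgroup.zpowers_le.2 hc
  have hmem : ∀ {x : G}, x ∈ M → ∃ u ∈ A, ∃ v ∈ Subgroup.zpowers c, x = u * v := by
    intro x hx
    rw [hM, sup_comm] at hx
    obtain ⟨v, hv, u, hu, e⟩ := h.pair.swap.mem_sup hcle hx
    exact ⟨u, hu, v, hv, e.trans ((h.pair.comm u hu v (hcle hv)).symm.eq)⟩
  have hvc : ∀ {v : G}, v ∈ Subgroup.zpowers c → v = 1 ∨ v = c := fun {v} hv => by
    obtain ⟨i, rfl⟩ := Subgroup.mem_zpowers_iff.1 hv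
    rcases Int.even_or_odd' i with ⟨j, rfl | rfl⟩
    · exact .inl (by rw [zpow_mul, zpow_two, hcc, one_zpow])
    · exact .inr (by rw [zpow_add, zpow_mul, zpow_two, hcc, one_zpow, zpow_one, one_mul])
  have hbc : b * c ≠ c := fun e => hb1 (mul_eq_right.1 e)
  have hbc1 : b * c ≠ 1 := fun e => hcb (by
    calc c = b * b * c := by rw [hB2 b hb, one_mul]
      _ = b * (b * c) := mul_assoc _ _ _
      _ = b := by rw [e, mul_one])
  have hrel : M.relIndex (P : Subgroup G) = 2 := by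
    rw [Subgroup.relIndex, Subgroup.index_eq_two_iff]
    refine ⟨⟨b, h.pair.leB hb⟩, fun p => ?_⟩
    obtain ⟨u, hu, v, hv, e⟩ := h.pair.split p.2
    simp only [Subgroup.mem_subgroupOf, Subgroup.coe_mul]
    have hiff : ∀ {v : G}, v ∈ B → (u * v ∈ M ↔ v = 1 ∨ v = c) := by
      intro v hv
      refine ⟨fun hx => ?_, fun hx => ?_⟩
      · obtain ⟨u', hu', v', hv', e'⟩ := hmem hx
        exact (h.pair.uniq hu hu' hv (hcle hv') e').2 ▸ hvc hv'
      · rcases hx with rfl | rfl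
        · rw [mul_one]; exact Subgroup.mem_sup_left hu
        · exact Subgroup.mul_mem_sup hu (Subgroup.mem_zpowers _)
    rw [e, mul_assoc, hiff (mul_mem hv hb), hiff hv]
    rcases hcov v hv with rfl | rfl | rfl | rfl
    · exact .inr ⟨.inl rfl, by rw [one_mul]; rintro (e | e); exacts [hb1 e, hcb e.symm]⟩
    · exact .inl ⟨.inl (hB2 _ hb), by rintro (e | e); exacts [hb1 e, hcb e.symm]⟩
    · refine .inr ⟨.inr rfl, ?_⟩
      rw [(h.central_B hB2 (h.pair.leB hc) hb).eq]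
      rintro (e | e)
      exacts [hbc1 e, hbc e]
    · refine .inl ⟨.inr ?_, by rintro (e | e); exacts [hbc1 e, hbc e]⟩
      rw [(h.central_B hB2 (h.pair.leB hb) hc).eq, mul_assoc, hB2 b hb, mul_one]
  obtain ⟨g, hgP, -, hgM⟩ := exists_move h2 P hrel (orderOf_two (hB2 b hb) hb1) P.isPGroup'
    fun t ht => h.central_B hB2 ht hb
  have hn : g ∈ Subgroup.normalizer (P : Set G) := BS.mem_normalizer_of_conj_le hgP
  refine ⟨g, hn, ?_⟩
  obtain ⟨u, hu, v, hv, e⟩ := hmem hgM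
  have hcen : ∀ x ∈ A, Commute x u := fun x hx => by
    have hx' : g⁻¹ * x * g ∈ (P : Subgroup G) :=
      (Subgroup.mem_normalizer_iff''.1 hn x).1 (h.pair.leA hx)
    have h1 := commute_conj g (h.central_B hB2 hx' hb)
    rw [e, show g * (g⁻¹ * x * g) * g⁻¹ = x * 1 by group] at h1
    exact ((h.pair.commute_iff hx (one_mem B) hu (hcle hv)).1 h1).1
  have hne : g * b * g⁻¹ ≠ 1 := fun e => hb1 (conj_eq_one_iff.1 e)
  have hna : g * b * g⁻¹ ≠ a := fun e => by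
    have : b = a := mul_left_cancel (mul_right_cancel (e.trans (h.fix_a hB2 hn).symm))
    exact hb1 (h.pair.eq_one_of_mem (this ▸ h.a_mem) hb)
  rcases h.center_cases hu hcen with eu | eu <;> rcases hvc hv with ev | ev <;>
    rw [e, eu, ev] at hne hna <;> rw [e, eu, ev]
  · exact absurd (mul_one 1) hne
  · exact .inl (one_mul c)
  · exact absurd (mul_one a) hna
  · exact .inr rfl

/-- The choice of the invariant four group. -/
theorem exists_fourData (h2 : ∀ N : Subgroup G, N.Normal → N.index ≠ 2)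
    (hB2 : ∀ x ∈ B, x * x = 1) {b₁ b₂ : G} (hb₁ : b₁ ∈ B) (hb₂ : b₂ ∈ B) (h1 : b₁ ≠ 1)
    (h1' : b₂ ≠ 1) (h12 : b₁ ≠ b₂)
    (hcov : ∀ x ∈ B, x = 1 ∨ x = b₁ ∨ x = b₂ ∨ x = b₁ * b₂) :
    ∃ (W : Subgroup G) (w₁ w₂ : G), FourData P A W R r s a w₁ w₂ := by
  set b₃ := b₁ * b₂ with hb₃
  have hb₃B : b₃ ∈ B := mul_mem hb₁ hb₂
  have haa := mul_self_two h.dih.a_ord
  have hb11 := hB2 _ hb₁
  have h31 : b₃ ≠ 1 := fun e => h12 (by
    calc b₁ = b₁ * (b₁ * b₂) := by rw [← hb₃, e, mul_one]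
      _ = b₂ := by rw [← mul_assoc, hb11, one_mul])
  have h31' : b₃ ≠ b₁ := fun e => h1' (mul_eq_left.1 e)
  have h13 : b₁ * b₃ = b₂ := by rw [hb₃, ← mul_assoc, hb11, one_mul]
  obtain ⟨n, hn, e⟩ := h.move_four h2 hB2 hb₁ hb₂ h1 (Ne.symm h12) h1' hcov
  obtain ⟨n', hn', e'⟩ := h.move_four h2 hB2 hb₁ hb₃B h1 h31' h31 (fun x hx => by
    rcases hcov x hx with e | e | e | e
    · exact .inl e
    · exact .inr (.inl e)
    · exact .inr (.inr (.inr (e.trans h13.symm)))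
    · exact .inr (.inr (.inl e)))
  have hZ2 : ∀ {x : G}, (∃ β ∈ B, x = β ∨ x = a * β) →
      x * x = 1 ∧ ∀ p ∈ (P : Subgroup G), Commute p x := by
    rintro x ⟨β, hβ, rfl | rfl⟩
    · exact ⟨hB2 x hβ, fun p hp => h.central_B hB2 hp hβ⟩
    · exact ⟨by rw [h.pair.sq h.a_mem hβ, haa, hB2 β hβ, one_mul],
        fun p hp => (h.a_commute_P hp).mul_right (h.central_B hB2 hp hβ)⟩
  set o₂ := n * b₁ * n⁻¹ with ho₂
  set o₃ := n' * b₁ * n'⁻¹ with ho₃
  -- the orbit of `b₁` has one element in each coset of `a`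
  set Orb : G → Prop := fun z => ∃ m ∈ Subgroup.normalizer (P : Set G), m * b₁ * m⁻¹ = z with hOrb
  have huni : ∀ {β z z' : G}, β ∈ B → Orb z → Orb z' → (z = β ∨ z = a * β) →
      (z' = β ∨ z' = a * β) → z = z' := by
    rintro β z z' hβ ⟨m, hm, em⟩ ⟨m', hm', em'⟩ hz hz'
    have key : ∀ {m m' : G}, m ∈ Subgroup.normalizer (P : Set G) →
        m' ∈ Subgroup.normalizer (P : Set G) → m * b₁ * m⁻¹ = β → m' * b₁ * m'⁻¹ ≠ a * β := by
      intro m m' hm hm' e1 e2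
      refine h.no_swap hB2 (mul_mem hm' (inv_mem hm)) hβ ?_
      rw [← e2, ← e1]; group
    rcases hz with rfl | rfl <;> rcases hz' with rfl | rfl
    · rfl
    · exact absurd em' (key hm hm' em)
    · exact absurd em (key hm' hm em')
    · rfl
  have horb : ∀ m ∈ Subgroup.normalizer (P : Set G),
      m * b₁ * m⁻¹ = b₁ ∨ m * b₁ * m⁻¹ = o₂ ∨ m * b₁ * m⁻¹ = o₃ := by
    intro m hm
    have hP : m * b₁ * m⁻¹ ∈ (P : Subgroup G) :=
      (Subgroup.mem_normalizer_iff.1 hm _).1 (h.pair.leB hb₁)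
    obtain ⟨β, hβ, eb⟩ := h.center_of_four hB2 hP fun p hp => by
      have hp' : m⁻¹ * p * m ∈ (P : Subgroup G) := (Subgroup.mem_normalizer_iff''.1 hm p).1 hp
      have := commute_conj m (h.central_B hB2 hp' hb₁)
      rwa [show m * (m⁻¹ * p * m) * m⁻¹ = p by group] at this
    have hm' : Orb (m * b₁ * m⁻¹) := ⟨m, hm, rfl⟩
    rcases hcov β hβ with rfl | rfl | rfl | rfl
    · rcases eb with eb | eb
      · exact absurd (conj_eq_one_iff.1 eb) h1
      · rw [mul_one] at eb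
        have : b₁ = a := mul_left_cancel (mul_right_cancel (eb.trans (h.fix_a hB2 hm).symm))
        exact absurd (h.pair.eq_one_of_mem (this ▸ h.a_mem) hb₁) h1
    · exact .inl (huni hβ hm' ⟨1, one_mem _, by group⟩ eb (.inl rfl))
    · exact .inr (.inl (huni hβ hm' ⟨n, hn, rfl⟩ eb e))
    · exact .inr (.inr (huni hβ hm' ⟨n', hn', rfl⟩ eb e'))
  have ho₂c := hZ2 ⟨b₂, hb₂, e⟩
  have ho₃c := hZ2 ⟨b₃, hb₃B, e'⟩
  -- correct by `a` so that the three elements multiply to one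
  have hac : ∀ {x : G}, x ∈ (P : Subgroup G) → Commute x a := fun hx => h.a_commute_P hx
  obtain ⟨w₁, w₂, w₃, ε, hε, ew₁, ew₂, ew₃, hprod⟩ :
      ∃ w₁ w₂ w₃ ε : G, (ε = 1 ∨ ε = a) ∧ w₁ = ε * b₁ ∧ w₂ = ε * o₂ ∧ w₃ = ε * o₃ ∧
        w₁ * w₂ = w₃ := by
    have hπ : b₁ * o₂ = o₃ ∨ b₁ * o₂ = a * o₃ := by
      have hba : b₁ * (a * b₂) = a * b₃ := by
        rw [← mul_assoc, (hac (h.pair.leB hb₁)).eq, mul_assoc, hb₃]
      rcases e with e | e <;> rcases e' with e' | e' <;> rw [e, e']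
      · exact .inl hb₃.symm
      · exact .inr (by rw [← mul_assoc, haa, one_mul])
      · exact .inr hba
      · exact .inl hba
    rcases hπ with hπ | hπ
    · exact ⟨b₁, o₂, o₃, 1, .inl rfl, (one_mul _).symm, (one_mul _).symm, (one_mul _).symm, hπ⟩
    · refine ⟨a * b₁, a * o₂, a * o₃, a, .inr rfl, rfl, rfl, rfl, ?_⟩
      calc a * b₁ * (a * o₂) = a * (b₁ * a) * o₂ := by group
        _ = a * (a * b₁) * o₂ := by rw [(hac (h.pair.leB hb₁)).eq]
        _ = (a * a) * (b₁ * o₂) := by group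
        _ = a * o₃ := by rw [haa, one_mul, hπ]
  have hεfix : ∀ m ∈ Subgroup.normalizer (P : Set G), m * ε * m⁻¹ = ε := by
    intro m hm
    rcases hε with rfl | rfl
    · group
    · exact h.fix_a hB2 hm
  have hεA : ε ∈ A := by
    rcases hε with rfl | rfl
    · exact one_mem A
    · exact h.a_mem
  have hεZ : ε * ε = 1 ∧ ∀ p ∈ (P : Subgroup G), Commute p ε := by
    rcases hε with rfl | rfl
    · exact ⟨one_mul 1, fun p _ => Commute.one_right p⟩
    · exact ⟨haa, fun p hp => hac hp⟩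
  have hoP : ∀ {m : G}, m ∈ Subgroup.normalizer (P : Set G) → m * b₁ * m⁻¹ ∈ (P : Subgroup G) :=
    fun hm => (Subgroup.mem_normalizer_iff.1 hm _).1 (h.pair.leB hb₁)
  have hwc : ∀ {o : G}, o * o = 1 → (∀ p ∈ (P : Subgroup G), Commute p o) →
      (ε * o) * (ε * o) = 1 ∧ ∀ p ∈ (P : Subgroup G), Commute p (ε * o) := by
    intro o ho hoc
    refine ⟨?_, fun p hp => (hεZ.2 p hp).mul_right (hoc p hp)⟩
    rw [(hoc ε (h.pair.leA hεA)).symm.mul_mul_mul_comm, hεZ.1, ho, one_mul]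
  obtain ⟨hw₁q, hw₁c⟩ := ew₁ ▸ hwc hb11 fun p hp => h.central_B hB2 hp hb₁
  obtain ⟨hw₂q, hw₂c⟩ := ew₂ ▸ hwc ho₂c.1 ho₂c.2
  have hw₁P : w₁ ∈ (P : Subgroup G) := ew₁ ▸ h.pair.mul_mem' hεA hb₁
  have hw₂P : w₂ ∈ (P : Subgroup G) :=
    ew₂ ▸ mul_mem (h.pair.leA hεA) (hoP hn)
  have hw₁₂ : Commute w₁ w₂ := hw₂c w₁ hw₁P
  have hAB : ∀ {β o : G}, β ∈ B → (o = β ∨ o = a * β) → ∃ u ∈ A, ε * o = u * β := by
    rintro β o hβ (rfl | rfl)
    · exact ⟨ε, hεA, rfl⟩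
    · exact ⟨ε * a, mul_mem hεA h.a_mem, (mul_assoc _ _ _).symm⟩
  obtain ⟨u₂, hu₂, eu₂⟩ := hAB hb₂ e
  obtain ⟨u₃, hu₃, eu₃⟩ := hAB hb₃B e'
  have hw₃q : w₃ * w₃ = 1 := by rw [← hprod, hw₁₂.symm.mul_mul_mul_comm, hw₁q, hw₂q, one_mul]
  let W : Subgroup G :=
    { carrier := {x | x = 1 ∨ x = w₁ ∨ x = w₂ ∨ x = w₃}
      one_mem' := .inl rfl
      mul_mem' := by
        have e21 : w₂ * w₁ = w₃ := by rw [← hw₁₂.eq, hprod]
        have e13 : w₁ * w₃ = w₂ := by rw [← hprod, ← mul_assoc, hw₁q, one_mul]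
        have e31 : w₃ * w₁ = w₂ := by rw [← e21, mul_assoc, hw₁q, mul_one]
        have e23 : w₂ * w₃ = w₁ := by rw [← e21, ← mul_assoc, hw₂q, one_mul]
        have e32 : w₃ * w₂ = w₁ := by rw [← hprod, mul_assoc, hw₂q, mul_one]
        rintro x y (rfl | rfl | rfl | rfl) (rfl | rfl | rfl | rfl) <;>
          simp [hw₁q, hw₂q, hw₃q, hprod, e21, e13, e31, e23, e32]
      inv_mem' := by
        rintro x (rfl | rfl | rfl | rfl)
        · exact .inl inv_one
        · exact .inr (.inl (inv_eq_of_mul_eq_one_right hw₁q))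
        · exact .inr (.inr (.inl (inv_eq_of_mul_eq_one_right hw₂q)))
        · exact .inr (.inr (.inr (inv_eq_of_mul_eq_one_right hw₃q))) }
  have hmem : ∀ {x : G}, x ∈ W ↔ x = 1 ∨ x = w₁ ∨ x = w₂ ∨ x = w₃ := Iff.rfl
  have hWc : ∀ x ∈ W, ∀ p ∈ (P : Subgroup G), Commute p x := by
    intro x hx p hp
    rcases hmem.1 hx with e1 | e1 | e1 | e1 <;> rw [e1]
    · exact Commute.one_right p
    · exact hw₁c p hp
    · exact hw₂c p hp
    · exact hprod ▸ (hw₁c p hp).mul_right (hw₂c p hp)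
  have hWA : ∀ x ∈ A, x ∈ W → x = 1 := by
    intro x hx hxW
    rcases hmem.1 hxW with e1 | e1 | e1 | e1
    · exact e1
    · exact absurd (h.pair.uniq hx hεA (one_mem B) hb₁ (by rw [mul_one, e1, ew₁])).2.symm h1
    · exact absurd (h.pair.uniq hx hu₂ (one_mem B) hb₂ (by rw [mul_one, e1, ew₂, eu₂])).2.symm h1'
    · exact absurd (h.pair.uniq hx hu₃ (one_mem B) hb₃B (by rw [mul_one, e1, ew₃, eu₃])).2.symm h31
  refine ⟨W, w₁, w₂,
    { big :=
      { pair := ⟨fun x hx y hy => hWc y hy x (h.pair.leA hx), ?_, ?_⟩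
        dih := h.dih, four := h.four, gens := h.gens }
      mem₁ := hmem.2 (.inr (.inl rfl))
      mem₂ := hmem.2 (.inr (.inr (.inl rfl)))
      ne₁ := fun e1 => h1 (h.pair.uniq hεA (one_mem A) hb₁ (one_mem B)
        (by rw [← ew₁, e1, mul_one])).2
      ne₂ := fun e1 => h1' (h.pair.uniq hu₂ (one_mem A) hb₂ (one_mem B)
        (by rw [← eu₂, ← ew₂, e1, mul_one])).2
      ne₁₂ := fun e1 => h12 (h.pair.uniq hεA hu₂ hb₁ hb₂ (by rw [← eu₂, ← ew₁, ← ew₂, e1])).2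
      cover := fun x hx => by rw [hprod]; exact hmem.1 hx
      sq := fun x hx => by
        rcases hmem.1 hx with e1 | e1 | e1 | e1 <;> rw [e1]
        exacts [one_mul 1, hw₁q, hw₂q, hw₃q]
      stable := ?_
      move := ⟨n, hn, by rw [ew₁, ew₂, conj_mul', hεfix n hn]⟩ }⟩
  · rw [eq_bot_iff]
    exact fun x hx => Subgroup.mem_bot.2 (hWA x hx.1 hx.2)
  · refine le_antisymm (sup_le h.pair.leA fun x hx => ?_) ?_
    · rcases hmem.1 hx with e1 | e1 | e1 | e1 <;> rw [e1]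
      exacts [one_mem _, hw₁P, hw₂P, hprod ▸ mul_mem hw₁P hw₂P]
    · rw [← h.pair.sup]
      refine sup_le le_sup_left fun x hx => ?_
      have key : ∀ {u β w : G}, u ∈ A → w ∈ W → w = u * β → β ∈ A ⊔ W := by
        intro u β w hu hw ew
        rw [show β = u⁻¹ * w by rw [ew, inv_mul_cancel_left]]
        exact Subgroup.mul_mem_sup (inv_mem hu) hw
      rcases hcov x hx with e1 | e1 | e1 | e1 <;> rw [e1]
      · exact one_mem _
      · exact key hεA (hmem.2 (.inr (.inl rfl))) ew₁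
      · exact key hu₂ (hmem.2 (.inr (.inr (.inl rfl)))) (ew₂.trans eu₂)
      · exact key hu₃ (hmem.2 (.inr (.inr (.inr rfl)))) (ew₃.trans eu₃)
  · intro m hm x hx
    have hone : ∀ {m : G}, m ∈ Subgroup.normalizer (P : Set G) → m * w₁ * m⁻¹ ∈ W := by
      intro m hm
      rw [ew₁, conj_mul', hεfix m hm]
      rcases horb m hm with e1 | e1 | e1 <;> rw [e1]
      exacts [hmem.2 (.inr (.inl ew₁.symm)), hmem.2 (.inr (.inr (.inl ew₂.symm))),
        hmem.2 (.inr (.inr (.inr ew₃.symm)))]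
    rcases hmem.1 hx with e1 | e1 | e1 | e1 <;> rw [e1]
    · rw [mul_one, mul_inv_cancel]; exact one_mem W
    · exact hone hm
    · rw [ew₂, ← hεfix n hn, ho₂, ← conj_mul', ← ew₁,
        show m * (n * w₁ * n⁻¹) * m⁻¹ = m * n * w₁ * (m * n)⁻¹ by group]
      exact hone (mul_mem hm hn)
    · rw [ew₃, ← hεfix n' hn', ho₃, ← conj_mul', ← ew₁,
        show m * (n' * w₁ * n'⁻¹) * m⁻¹ = m * n' * w₁ * (m * n')⁻¹ by group]
      exact hone (mul_mem hm hn')

end Big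

end Cfsg.Agent.ProdFus.Split
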