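import Cfsg.Agent.Lib.Transfer.Product.Split.FourMain

/-!
# A dihedral factor times a four group: strong closure
-/

set_option linter.unusedSectionVars false
set_option linter.style.haveILetI false

namespace Cfsg.Agent.ProdFus.Split

open Cfsg

universe u

variable {G : Type u} [Group G] [Finite G] {P : Sylow 2 G} {A W R : Subgroup G} {r s a w₁ w₂ : G}

namespace FourData

variable (D : FourData P A W R r s a w₁ w₂) (h2 : ∀ N : Subgroup G, N.Normal → N.index ≠ 2)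
  (IA : ∀ x ∈ A, orderOf x = 2 → IsConj x a)
include D h2 IA

/-- The class of a product of involutions of the two factors. -/
theorem mixed_class {α v : G} (hα : α ∈ A) (hα2 : α * α = 1) (hv : v ∈ W) (hv1 : v ≠ 1) :
    (α = 1 ∧ IsConj (α * v) w₁) ∨ IsConj (α * v) (a * w₁) := by
  obtain ⟨c1, c2⟩ := D.conj_w₁ hv hv1
  by_cases hR : α ∈ R
  · rcases D.big.R_sq hR hα2 with rfl | rfl
    · exact .inl ⟨rfl, by rw [one_mul]; exact c1.symm⟩
    · exact .inr c2.symm
  · obtain ⟨u, hu, hua, hother⟩ := D.refl_classes h2 hα hR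
    have hu1 : u = 1 := by
      by_contra hu1
      have := hother 1 (one_mem W) (Ne.symm hu1)
      rw [mul_one] at this
      exact D.not_conj.2.1 ((IA α hα (orderOf_two hα2 fun e => hR (e ▸ one_mem R))).symm.trans this)
    exact .inr (hother v hv (hu1 ▸ hv1))

theorem involClosed_A : InvolClosed P A := by
  intro x hx hx2 g hg
  obtain ⟨α, hα, v, hv, e⟩ := D.big.pair.split hg
  have hq : IsConj (α * v) a :=
    (isConj_iff.2 ⟨g, e⟩ : IsConj x (α * v)).symm.trans (IA x hx hx2)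
  have hsq : α * α = 1 ∧ v * v = 1 := by
    refine (D.big.pair.eq_one_iff (mul_mem hα hα) (mul_mem hv hv)).1 ?_
    rw [← D.big.pair.sq hα hv, ← e, ← conj_mul', mul_self_two hx2, mul_one, mul_inv_cancel]
  by_cases hv1 : v = 1
  · rw [e, hv1, mul_one]; exact hα
  obtain ⟨nBA, nAC, -⟩ := D.not_conj
  rcases D.mixed_class h2 IA hα hsq.1 hv hv1 with ⟨-, hc⟩ | hc
  · exact absurd (hc.symm.trans hq) nBA
  · exact absurd (hc.symm.trans hq).symm nAC

theorem involClosed_W : InvolClosed P W := by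
  intro x hx hx2 g hg
  obtain ⟨α, hα, v, hv, e⟩ := D.big.pair.split hg
  have hq : IsConj (α * v) w₁ := (isConj_iff.2 ⟨g, e⟩ : IsConj x (α * v)).symm.trans
    (D.conj_w₁ hx (Invol.ne_one_of_orderOf_two hx2)).1.symm
  have hsq : α * α = 1 ∧ v * v = 1 := by
    refine (D.big.pair.eq_one_iff (mul_mem hα hα) (mul_mem hv hv)).1 ?_
    rw [← D.big.pair.sq hα hv, ← e, ← conj_mul', mul_self_two hx2, mul_one, mul_inv_cancel]
  obtain ⟨nBA, -, nBC⟩ := D.not_conj
  by_cases hα1 : α = 1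
  · rw [e, hα1, one_mul]; exact hv
  exfalso
  by_cases hv1 : v = 1
  · rw [hv1, mul_one] at hq
    exact nBA (hq.symm.trans (IA α hα (orderOf_two hsq.1 hα1)))
  rcases D.mixed_class h2 IA hα hsq.1 hv hv1 with ⟨h1, -⟩ | hc
  · exact hα1 h1
  · exact nBC (hq.symm.trans hc)

theorem closed_W : IsStronglyClosed W (P : Subgroup G) := by
  refine ⟨D.big.pair.leB, fun x hx g hg => ?_⟩
  by_cases hx1 : x = 1
  · rw [hx1, mul_one, mul_inv_cancel]; exact one_mem W
  exact D.involClosed_W h2 IA x hx (orderOf_two (D.sq x hx) hx1) g hg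

theorem fix_R {n : G} (hQ : ∀ y ∈ R ⊔ W, n * y * n⁻¹ ∈ R ⊔ W) (hB : ∀ y ∈ W, n * y * n⁻¹ ∈ W) :
    n * r * n⁻¹ ∈ R := by
  have hL := D.big
  have hBc : ∀ z ∈ W, (∀ y ∈ W, Commute y z) → z * z = 1 := fun z hz _ => D.sq z hz
  obtain ⟨i, hi, β, hβ, hb, -, e⟩ := hL.image_r hBc hQ hB
  by_cases hβ1 : β = 1
  · rw [e, hβ1, mul_one]; exact zpow_mem hL.r_mem i
  exfalso
  obtain ⟨k, hk, -⟩ := D.exists_cyc
  -- `k` normalises `A`, `R` and `R ⊔ W`
  have hkA : ∀ y ∈ A, k * y * k⁻¹ ∈ A := fun y hy =>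
    conj_mem_of_closed (D.involClosed_A h2 IA) hL.gens
      (fun z hz => (Subgroup.mem_normalizer_iff.1 hk.1 z).1 (hL.pair.leA hz)) hy
  have hkr : k * r * k⁻¹ ∈ R := by
    refine hL.dih.mem_of_sq_ne (hkA r (hL.dih.le hL.r_mem)) fun e1 => hL.r_sq_ne ?_
    rw [← conj_mul'] at e1
    exact conj_eq_one_iff.1 e1
  have hkR : ∀ y ∈ R, k * y * k⁻¹ ∈ R := fun y hy => by
    obtain ⟨j, rfl⟩ := Subgroup.mem_zpowers_iff.1 (hL.dih.gen ▸ hy)
    rw [← conj_zpow]; exact zpow_mem hkr j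
  have hkQ : ∀ y ∈ R ⊔ W, k * y * k⁻¹ ∈ R ⊔ W := fun y hy => by
    obtain ⟨α, hα, γ, hγ, rfl⟩ := hL.pair.mem_sup hL.dih.le hy
    rw [conj_mul']
    exact Subgroup.mul_mem_sup (hkR α hα) (D.stable k hk.1 γ hγ)
  set O := {K : Subgroup G | ∃ m : G, (∀ y ∈ R ⊔ W, m * y * m⁻¹ ∈ R ⊔ W) ∧
      (∀ y ∈ W, m * y * m⁻¹ ∈ W) ∧ R.map (MulAut.conj m).toMonoidHom = K} with hO
  have hstep : ∀ γ ∈ W, Subgroup.zpowers (r * γ) ∈ O →
      Subgroup.zpowers (r * (k * γ * k⁻¹)) ∈ O := by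
    rintro γ hγ ⟨m, hmQ, hmB, hm⟩
    obtain ⟨i', hi', γ', hγ', hb', -, e'⟩ := hL.image_r hBc hmQ hmB
    obtain rfl : γ' = γ :=
      hL.line_inj hγ hγ' (D.sq γ hγ) ((hL.map_R hi' hγ' hb' e').symm.trans hm)
    have hQ' : ∀ y ∈ R ⊔ W, k * m * y * (k * m)⁻¹ ∈ R ⊔ W := fun y hy => by
      rw [show k * m * y * (k * m)⁻¹ = k * (m * y * m⁻¹) * k⁻¹ by group]
      exact hkQ _ (hmQ y hy)
    have hB' : ∀ y ∈ W, k * m * y * (k * m)⁻¹ ∈ W := fun y hy => by
      rw [show k * m * y * (k * m)⁻¹ = k * (m * y * m⁻¹) * k⁻¹ by group]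
      exact D.stable k hk.1 _ (hmB y hy)
    refine ⟨k * m, hQ', hB', ?_⟩
    obtain ⟨i'', hi'', δ, hδ, hbδ, -, e''⟩ := hL.image_r hBc hQ' hB'
    rw [show k * m * r * (k * m)⁻¹ = k * (m * r * m⁻¹) * k⁻¹ by group, e', conj_mul'] at e''
    obtain ⟨-, h'⟩ := hL.pair.uniq (hL.dih.le (hkR _ (zpow_mem hL.r_mem i')))
      (hL.dih.le (zpow_mem hL.r_mem i'')) (D.stable k hk.1 _ hγ) hδ e''
    rw [hL.map_R hi'' hδ hbδ (by
      rw [show k * m * r * (k * m)⁻¹ = k * (m * r * m⁻¹) * k⁻¹ by group, e', conj_mul']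
      exact e''), ← h']
  have h0 : Subgroup.zpowers (r * β) ∈ O := ⟨n, hQ, hB, hL.map_R hi hβ hb e⟩
  have h1 : R ∈ O := ⟨1, fun y hy => by simpa using hy, fun y hy => by simpa using hy, by
    refine Subgroup.ext fun y => ?_
    simp [Subgroup.mem_map]⟩
  have hR : R = Subgroup.zpowers (r * 1) := by rw [mul_one]; exact hL.dih.gen
  have hall : ∀ γ ∈ W, Subgroup.zpowers (r * γ) ∈ O := by
    have hk1 := (hk.2 β hβ hβ1).1
    have g0 := hstep β hβ h0
    have g1 := hstep _ (D.stable k hk.1 β hβ) g0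
    rw [(hk.2 β hβ hβ1).2] at g1
    intro γ hγ
    by_cases hγ1 : γ = 1
    · rw [hγ1, ← hR]; exact h1
    have hβ' : k * β * k⁻¹ ∈ W := D.stable k hk.1 β hβ
    have hne' : k * β * k⁻¹ ≠ 1 := fun e => hβ1 (conj_eq_one_iff.1 e)
    have hcov : γ = β ∨ γ = k * β * k⁻¹ ∨ γ = β * (k * β * k⁻¹) := by
      have hbb : β * (k * β * k⁻¹) ≠ 1 := fun e => hk1 (by
        rw [mul_eq_one_iff_eq_inv'.1 e, inv_eq_of_mul_eq_one_right (D.sq β hβ)])
      have heq : ({1, β, k * β * k⁻¹, β * (k * β * k⁻¹)} : Set G) = (W : Set G) := by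
        refine Set.eq_of_subset_of_ncard_le ?_ ?_ (Set.toFinite _)
        · rintro x (rfl | rfl | rfl | rfl)
          exacts [one_mem W, hβ, hβ', mul_mem hβ hβ']
        · rw [D.card_W, Set.ncard_insert_of_notMem (by simp [Ne.symm hβ1, Ne.symm hne', Ne.symm hbb]),
            Set.ncard_insert_of_notMem (by simp [Ne.symm hk1, hne']),
            Set.ncard_pair (fun e => hβ1 (mul_eq_right.1 e.symm))]
      have : γ ∈ ({1, β, k * β * k⁻¹, β * (k * β * k⁻¹)} : Set G) := heq.symm ▸ hγ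
      rcases this with h' | h' | h' | h'
      exacts [absurd h' hγ1, .inl h', .inr (.inl h'), .inr (.inr h')]
    rcases hcov with rfl | rfl | rfl
    exacts [h0, g0, g1]
  have hOeq : O = (fun γ => Subgroup.zpowers (r * γ)) '' (W : Set G) := by
    refine Set.Subset.antisymm ?_ (by rintro _ ⟨γ, hγ, rfl⟩; exact hall γ hγ)
    rintro K ⟨m, hmQ, hmB, rfl⟩
    obtain ⟨i', hi', γ, hγ, hb', -, e'⟩ := hL.image_r hBc hmQ hmB
    exact ⟨γ, hγ, (hL.map_R hi' hγ hb' e').symm⟩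
  have hodd := hL.odd_orbit_R
  rw [← hO, hOeq, Set.InjOn.ncard_image (fun γ hγ γ' hγ' e => hL.line_inj hγ' hγ (D.sq γ' hγ') e),
    D.card_W] at hodd
  exact (by decide : ¬ Odd 4) hodd

theorem closed_A : IsStronglyClosed A (P : Subgroup G) := by
  refine D.big.stronglyClosed (D.involClosed_A h2 IA) (D.involClosed_W h2 IA) ?_ ?_ ?_
    fun n hQ hB => D.fix_R h2 IA hQ hB
  · intro x hx
    by_cases hx1 : x = 1
    · rw [hx1]; exact one_mem _
    · exact Subgroup.subset_closure ⟨hx, orderOf_two (D.sq x hx) hx1⟩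
  · intro v hv hv2; exact absurd (D.sq v hv) hv2
  · intro v hv _ ⟨y, hy, hyv⟩
    exact absurd (D.central (D.big.pair.leB hy) hv) hyv

end FourData

/-- A big dihedral factor and a four group can be chosen strongly closed. -/
theorem exists_prod_of_four (h2 : ∀ N : Subgroup G, N.Normal → N.index ≠ 2) {P : Sylow 2 G}
    {A B R : Subgroup G} {r s a : G} {m : ℕ} (hm : 2 ∣ m) (h : Big P A B R r s a)
    (e : A ≃* DihedralGroup m) (eB : B ≃* DihedralGroup 2) :
    ∃ A' B' : Subgroup G, Prod P A' B' ∧ Nonempty (A' ≃* DihedralGroup m) ∧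
      Nonempty (B' ≃* DihedralGroup 2) := by
  have hB2 : ∀ x ∈ B, x * x = 1 := by
    intro x hx
    have key : ∀ y : DihedralGroup 2, y * y = 1 := by decide
    exact congrArg Subtype.val (eB.injective (by rw [map_mul, key, map_one]) :
      (⟨x, hx⟩ : B) * ⟨x, hx⟩ = 1)
  set f : DihedralGroup 2 → G := fun y => ((eB.symm y : B) : G) with hf
  have hinj : Function.Injective f := Subtype.val_injective.comp eB.symm.injective
  have hf1 : f 1 = 1 := by simp [hf]
  obtain ⟨W, w₁, w₂, D⟩ := h.exists_fourData h2 hB2 (b₁ := f (DihedralGroup.r 1))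
    (b₂ := f (DihedralGroup.sr 0)) (eB.symm _).2 (eB.symm _).2
    (fun e1 => absurd (hinj (e1.trans hf1.symm)) (by decide))
    (fun e1 => absurd (hinj (e1.trans hf1.symm)) (by decide))
    (fun e1 => absurd (hinj e1) (by decide))
    (fun x hx => by
      have hx' : x = f (eB ⟨x, hx⟩) := by simp [hf]
      have key : ∀ y : DihedralGroup 2, y = 1 ∨ y = DihedralGroup.r 1 ∨ y = DihedralGroup.sr 0 ∨
          y = DihedralGroup.r 1 * DihedralGroup.sr 0 := by decide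
      rcases key (eB ⟨x, hx⟩) with e1 | e1 | e1 | e1 <;> rw [e1] at hx'
      · exact .inl (hx'.trans hf1)
      · exact .inr (.inl hx')
      · exact .inr (.inr (.inl hx'))
      · exact .inr (.inr (.inr (by rw [hx', hf]; simp only [map_mul, Subgroup.coe_mul]))))
  obtain ⟨A', R', r', s', hA', ⟨eA⟩, IA⟩ := D.big.exists_twist hm e W le_rfl
    (fun z hz y hy => D.central (D.big.pair.leB hy) hz) D.sq
    fun x hx hR => by
      obtain ⟨u, hu, hc, -⟩ := D.refl_classes h2 hx hR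
      exact ⟨u, hu, hc⟩
  have D' : FourData P A' W R' r' s' a w₁ w₂ :=
    { big := hA', mem₁ := D.mem₁, mem₂ := D.mem₂, ne₁ := D.ne₁, ne₂ := D.ne₂, ne₁₂ := D.ne₁₂,
      cover := D.cover, sq := D.sq, stable := D.stable, move := D.move }
  have hp := D'.big.pair
  refine ⟨A', W, ⟨D'.closed_A h2 IA, D'.closed_W h2 IA, hp.comm, hp.disj, hp.sup⟩, ⟨eA⟩, ?_⟩
  haveI : IsKleinFour W :=
    { card_four := by
        rw [← D.card_W, ← Nat.card_coe_set_eq]; rfl
      exponent_two := by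
        haveI : Nontrivial W := ⟨⟨⟨w₁, D.mem₁⟩, 1, fun e1 => D.ne₁ (congrArg Subtype.val e1)⟩⟩
        refine (Monoid.exponent_eq_prime_iff Nat.prime_two).2 fun x hx => ?_
        rw [← Subgroup.orderOf_coe]
        exact orderOf_two (D.sq x x.2) fun e1 => hx (Subtype.ext e1) }
  exact IsKleinFour.nonempty_mulEquiv

end Cfsg.Agent.ProdFus.Split
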