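import Cfsg.Agent.Lib.Transfer.Product.Split.FourBase
import Cfsg.Agent.Lib.Transfer.Product.Split.Closed
import Cfsg.Agent.Lib.Transfer.Product.Split.Twist

/-!
# A dihedral factor times a four group: splitting the fusion
-/

set_option linter.unusedSectionVars false
set_option linter.style.haveILetI false

namespace Cfsg.Agent.ProdFus.Split

open Cfsg

universe u

variable {G : Type u} [Group G] [Finite G] {P : Sylow 2 G} {A W R : Subgroup G} {r s a w₁ w₂ : G}

namespace FourData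

variable (D : FourData P A W R r s a w₁ w₂)

/-- A normalizing element permuting the involutions of `W` cyclically. -/
def Cyc (_D : FourData P A W R r s a w₁ w₂) (k : G) : Prop :=
  k ∈ Subgroup.normalizer (P : Set G) ∧ ∀ w ∈ W, w ≠ 1 →
    k * w * k⁻¹ ≠ w ∧ k * (k * w * k⁻¹) * k⁻¹ = w * (k * w * k⁻¹)

include D

theorem a_sq : a * a = 1 := mul_self_two D.big.dih.a_ord

theorem w₃_mem : w₁ * w₂ ∈ W := mul_mem D.mem₁ D.mem₂

theorem w₃_ne : w₁ * w₂ ≠ 1 := fun e => D.ne₁₂ (by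
  calc w₁ = w₁ * (w₁ * w₂) := by rw [e, mul_one]
    _ = w₂ := by rw [← mul_assoc, D.sq _ D.mem₁, one_mul])

theorem central {p w : G} (hp : p ∈ (P : Subgroup G)) (hw : w ∈ W) : Commute p w :=
  D.big.central_B D.sq hp hw

theorem fix_a {n : G} (hn : n ∈ Subgroup.normalizer (P : Set G)) : n * a * n⁻¹ = a :=
  D.big.fix_a D.sq hn

theorem exists_cyc : ∃ k, D.Cyc k ∧ k * w₁ * k⁻¹ = w₂ := by
  obtain ⟨n, hn, e₁⟩ := D.move
  have e₂ : n * w₂ * n⁻¹ = w₁ * w₂ := by
    rcases D.cover _ (D.stable n hn _ D.mem₂) with e | e | e | e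
    · exact absurd (conj_eq_one_iff.1 e) D.ne₂
    · exact absurd (eq_of_swap hn (fun p hp => D.central hp D.mem₁) e₁ e) D.ne₁₂
    · exact absurd (mul_left_cancel (mul_right_cancel (e₁.trans e.symm))) D.ne₁₂
    · exact e
  have hc := (D.central (D.big.pair.leB D.mem₁) D.mem₂).eq
  have e₃ : n * (w₁ * w₂) * n⁻¹ = w₁ := by
    rw [conj_mul', e₁, e₂, hc, ← mul_assoc, D.sq _ D.mem₂, one_mul]
  refine ⟨n, ⟨hn, fun w hw hw1 => ?_⟩, e₁⟩
  rcases D.cover w hw with rfl | rfl | rfl | rfl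
  · exact absurd rfl hw1
  · rw [e₁, e₂]; exact ⟨D.ne₁₂.symm, rfl⟩
  · rw [e₂, e₃]; exact ⟨fun e => D.ne₁ (mul_eq_right.1 e),
      by rw [hc, ← mul_assoc, D.sq _ D.mem₂, one_mul]⟩
  · rw [e₃, e₁]; exact ⟨fun e => D.ne₂ (mul_eq_left.1 e.symm),
      by rw [hc, mul_assoc, D.sq _ D.mem₁, mul_one]⟩

theorem cyc_mul_self {k : G} (hk : D.Cyc k) : D.Cyc (k * k) := by
  refine ⟨mul_mem hk.1 hk.1, fun w hw hw1 => ?_⟩
  set w' := k * w * k⁻¹ with hw'
  have e2 : k * k * w * (k * k)⁻¹ = w * w' := by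
    rw [← (hk.2 w hw hw1).2]; group
  have hw'W : w' ∈ W := D.stable k hk.1 w hw
  have e3 : k * (w * w') * k⁻¹ = w := by
    rw [conj_mul', (hk.2 w hw hw1).2, ← hw']
    calc w' * (w * w') = w' * (w' * w) := by rw [(D.central (D.big.pair.leB hw) hw'W).eq]
      _ = w := by rw [← mul_assoc, D.sq _ hw'W, one_mul]
  refine ⟨fun e => hw1 (conj_eq_one_iff.1 (mul_eq_left.1 (e2.symm.trans e) : w' = 1)), ?_⟩
  rw [e2, show k * k * (w * w') * (k * k)⁻¹ = k * (k * (w * w') * k⁻¹) * k⁻¹ by group, e3, ← hw',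
    ← mul_assoc, D.sq _ hw, one_mul]

theorem cyc_left {k p : G} (hk : D.Cyc k) (hp : p ∈ (P : Subgroup G)) : D.Cyc (p * k) := by
  have key : ∀ {w : G}, w ∈ W → p * k * w * (p * k)⁻¹ = k * w * k⁻¹ := fun {w} hw => by
    rw [show p * k * w * (p * k)⁻¹ = p * (k * w * k⁻¹) * p⁻¹ by group,
      (D.central hp (D.stable k hk.1 w hw)).eq, mul_inv_cancel_right]
  refine ⟨mul_mem (Subgroup.le_normalizer hp) hk.1, fun w hw hw1 => ?_⟩
  rw [key hw, key (D.stable k hk.1 w hw)]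
  exact hk.2 w hw hw1

/-- The orbit of a cyclic permutation covers the involutions of `W`. -/
theorem cyc_cover {k : G} (hk : D.Cyc k) {w : G} (hw : w ∈ W) (hw1 : w ≠ 1) :
    w = w₁ ∨ w = k * w₁ * k⁻¹ ∨ w = k * (k * w₁ * k⁻¹) * k⁻¹ := by
  obtain ⟨hne, he⟩ := hk.2 w₁ D.mem₁ D.ne₁
  have hc := (D.central (D.big.pair.leB D.mem₁) D.mem₂).eq
  have h12 : w₁ * (w₁ * w₂) = w₂ := by rw [← mul_assoc, D.sq _ D.mem₁, one_mul]
  rw [he]
  rcases D.cover _ (D.stable k hk.1 w₁ D.mem₁) with e | e | e | e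
  · exact absurd (conj_eq_one_iff.1 e) D.ne₁
  · exact absurd e hne
  · rw [e]; rcases D.cover w hw with rfl | rfl | rfl | rfl <;> simp_all
  · rw [e, h12]; rcases D.cover w hw with rfl | rfl | rfl | rfl <;> simp_all

theorem conj_w₁ {w : G} (hw : w ∈ W) (hw1 : w ≠ 1) :
    IsConj w₁ w ∧ IsConj (a * w₁) (a * w) := by
  obtain ⟨k, hk, -⟩ := D.exists_cyc
  rcases D.cyc_cover hk hw hw1 with rfl | rfl | rfl
  · exact ⟨IsConj.refl _, IsConj.refl _⟩
  · exact ⟨isConj_iff.2 ⟨k, rfl⟩, isConj_iff.2 ⟨k, by rw [conj_mul', D.fix_a hk.1]⟩⟩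
  · exact ⟨isConj_iff.2 ⟨k * k, by group⟩, isConj_iff.2 ⟨k * k, by
      rw [conj_mul', D.fix_a (mul_mem hk.1 hk.1)]; group⟩⟩

theorem aW_central {p w : G} (hp : p ∈ (P : Subgroup G)) (hw : w ∈ W) : Commute p (a * w) :=
  (D.big.a_commute_P hp).mul_right (D.central hp hw)

theorem not_conj : ¬ IsConj w₁ a ∧ ¬ IsConj a (a * w₁) ∧ ¬ IsConj w₁ (a * w₁) := by
  haveI : Fact (Nat.Prime 2) := ⟨Nat.prime_two⟩
  have ca : ∀ p ∈ (P : Subgroup G), Commute p a := fun p hp => D.big.a_commute_P hp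
  have cw : ∀ p ∈ (P : Subgroup G), Commute p w₁ := fun p hp => D.central hp D.mem₁
  have cc : ∀ p ∈ (P : Subgroup G), Commute p (a * w₁) := fun p hp => D.aW_central hp D.mem₁
  refine ⟨fun e => ?_, fun e => ?_, fun e => ?_⟩ <;> obtain ⟨g, e⟩ := isConj_iff.1 e
  · obtain ⟨n, hn, e'⟩ := Transfer.exists_normalizer_conj_elem P cw (g := g) (e.symm ▸ ca)
    rw [e] at e'
    have : w₁ = a := mul_left_cancel (mul_right_cancel (e'.trans (D.fix_a hn).symm))
    exact D.ne₁ (D.big.pair.eq_one_of_mem (this ▸ D.big.a_mem) D.mem₁)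
  · obtain ⟨n, hn, e'⟩ := Transfer.exists_normalizer_conj_elem P ca (g := g) (e.symm ▸ cc)
    rw [e, D.fix_a hn] at e'
    exact D.ne₁ (mul_eq_left.1 e'.symm)
  · obtain ⟨n, hn, e'⟩ := Transfer.exists_normalizer_conj_elem P cw (g := g) (e.symm ▸ cc)
    have h1 := D.stable n hn _ D.mem₁
    rw [e', e] at h1
    have h2 : a ∈ W := by
      have := mul_mem h1 (inv_mem D.mem₁)
      rwa [mul_inv_cancel_right] at this
    exact D.big.a_ne (D.big.pair.eq_one_of_mem D.big.a_mem h2)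

/-- A central element conjugate to one of the three representatives. -/
theorem central_class {z β : G} (hβ : β ∈ W) (hz : z = β ∨ z = a * β) (hz1 : z ≠ 1) :
    (z = a ∧ β = 1) ∨ (z = β ∧ β ≠ 1 ∧ IsConj z w₁) ∨
      (z = a * β ∧ β ≠ 1 ∧ IsConj z (a * w₁)) := by
  by_cases hb : β = 1
  · rcases hz with e | e <;> subst hb
    · exact absurd e hz1
    · exact .inl ⟨e.trans (mul_one a), rfl⟩
  · obtain ⟨c1, c2⟩ := D.conj_w₁ hβ hb
    rcases hz with rfl | rfl
    · exact .inr (.inl ⟨rfl, hb, c1.symm⟩)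
    · exact .inr (.inr ⟨rfl, hb, c2.symm⟩)

theorem card_W : (W : Set G).ncard = 4 := by
  have e : (W : Set G) = {1, w₁, w₂, w₁ * w₂} := by
    ext x
    refine ⟨fun hx => D.cover x hx, ?_⟩
    rintro (rfl | rfl | rfl | rfl)
    exacts [one_mem W, D.mem₁, D.mem₂, D.w₃_mem]
  rw [e, Set.ncard_insert_of_notMem (by simp [D.ne₁.symm, D.ne₂.symm, D.w₃_ne.symm]),
    Set.ncard_insert_of_notMem (by simp [D.ne₁₂, Ne.symm, D.ne₂]),
    Set.ncard_pair (fun e => D.ne₁ (mul_eq_right.1 e.symm))]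

/-- A reflection times an element of `W` moves into the center of the Sylow subgroup, taking its
centralizer in the Sylow subgroup along. -/
theorem move_refl (h2 : ∀ N : Subgroup G, N.Normal → N.index ≠ 2) {t u : G} (ht : t ∈ A)
    (htR : t ∉ R) (hu : u ∈ W) :
    ∃ g : G, (∀ p ∈ (P : Subgroup G), Commute p (t * u) → g * p * g⁻¹ ∈ (P : Subgroup G)) ∧
      g * (t * u) * g⁻¹ ≠ 1 ∧
      ∃ β ∈ W, g * (t * u) * g⁻¹ = β ∨ g * (t * u) * g⁻¹ = a * β := by
  have hne : t * u ≠ 1 := fun e =>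
    htR (((D.big.pair.eq_one_iff ht hu).1 e).1 ▸ one_mem R)
  have hyy : t * u * (t * u) = 1 := by
    rw [D.big.pair.sq ht hu, D.big.dih.sq_of_not_mem ht htR, D.sq u hu, one_mul]
  obtain ⟨g, hgT, -, hgM⟩ := exists_move h2 P D.big.M_relIndex (orderOf_two hyy hne)
    (T := (P : Subgroup G) ⊓ Subgroup.centralizer {t * u}) (P.isPGroup'.to_le inf_le_left)
    fun p hp => Subgroup.mem_centralizer_singleton_iff.1 hp.2
  refine ⟨g, fun p hp hc => hgT p ⟨hp, Subgroup.mem_centralizer_singleton_iff.2 hc.eq⟩,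
    fun e => hne (conj_eq_one_iff.1 e), ?_⟩
  obtain ⟨α, hα, β, hβ, e⟩ := D.big.pair.mem_sup D.big.dih.le hgM
  refine ⟨β, hβ, ?_⟩
  have h1 : α * α = 1 := by
    refine ((D.big.pair.eq_one_iff (mul_mem (D.big.dih.le hα) (D.big.dih.le hα))
      (mul_mem hβ hβ)).1 ?_).1
    rw [← D.big.pair.sq (D.big.dih.le hα) hβ, ← e, ← conj_mul', hyy, mul_one, mul_inv_cancel]
  rcases D.big.R_sq hα h1 with rfl | rfl
  · exact .inl (by rw [e, one_mul])
  · exact .inr e

/-- The elementary abelian subgroup of a reflection surjects on the center. -/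
theorem onto_center {t u g : G} (ht : t ∈ A) (htR : t ∉ R) (hu : u ∈ W)
    (hg : ∀ p ∈ (P : Subgroup G), Commute p (t * u) → g * p * g⁻¹ ∈ (P : Subgroup G)) {z β : G}
    (hβ : β ∈ W) (hz : z = β ∨ z = a * β) :
    ∃ α, (α = 1 ∨ α = a ∨ α = t ∨ α = a * t) ∧ ∃ γ ∈ W, g * (α * γ) * g⁻¹ = z := by
  set h := D.big.pair
  set S : G → Set G := fun x =>
    (fun q : G × G => q.1 * q.2) '' ({1, a, x, a * x} ×ˢ (W : Set G)) with hS
  have hmemA : ∀ {x α : G}, x ∈ A → α ∈ ({1, a, x, a * x} : Set G) → α ∈ A := by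
    rintro x α hx (rfl | rfl | rfl | rfl)
    exacts [one_mem A, D.big.a_mem, hx, mul_mem D.big.a_mem hx]
  have hcard : ∀ {x : G}, x ∈ A → x ∉ R → (S x).ncard = 16 := by
    intro x hx hxR
    have d1 : (1 : G) ≠ a := D.big.a_ne.symm
    have d2 : (1 : G) ≠ x := fun e => hxR (e ▸ one_mem R)
    have d3 : (1 : G) ≠ a * x := fun e => hxR (by
      rw [show x = a⁻¹ by exact eq_inv_of_mul_eq_one_right e.symm]; exact inv_mem D.big.dih.a_mem)
    have d4 : a ≠ x := fun e => hxR (e ▸ D.big.dih.a_mem)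
    have d5 : a ≠ a * x := fun e => hxR (by rw [mul_eq_left.1 e.symm]; exact one_mem R)
    have d6 : x ≠ a * x := fun e => D.big.a_ne (mul_eq_right.1 e.symm)
    rw [hS, Set.InjOn.ncard_image, Set.ncard_prod, D.card_W,
      Set.ncard_insert_of_notMem (by simp [d1, d2, d3]),
      Set.ncard_insert_of_notMem (by simp [d4, d5]), Set.ncard_pair d6]
    rintro ⟨p, q⟩ ⟨hp, hq⟩ ⟨p', q'⟩ ⟨hp', hq'⟩ e
    obtain ⟨rfl, rfl⟩ := h.uniq (hmemA hx hp) (hmemA hx hp') hq hq' e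
    rfl
  set E' : Set G := (fun p => g * p * g⁻¹) '' S t with hE'
  have hE'card : E'.ncard = 16 := by
    rw [hE', Set.ncard_image_of_injective _ fun p q e => mul_left_cancel (mul_right_cancel e),
      hcard ht htR]
  have hSt : ∀ {p : G}, p ∈ S t → ∃ α ∈ A, ∃ γ ∈ W, p = α * γ ∧
      (α = 1 ∨ α = a ∨ α = t ∨ α = a * t) := by
    rintro p ⟨⟨α, γ⟩, ⟨hα, hγ⟩, rfl⟩
    exact ⟨α, hmemA ht hα, γ, hγ, rfl, by simpa using hα⟩
  have hcommE : ∀ {p q : G}, p ∈ S t → q ∈ S t → Commute p q := by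
    intro p q hp hq
    obtain ⟨α, hα, γ, hγ, rfl, hα'⟩ := hSt hp
    obtain ⟨α', hα'A, γ', hγ', rfl, hα''⟩ := hSt hq
    refine (h.commute_iff hα hγ hα'A hγ').2 ⟨?_, D.central (h.leB hγ) hγ'⟩
    have hat : Commute a t := (D.big.a_commute_P (h.leA ht)).symm
    rcases hα' with rfl | rfl | rfl | rfl <;> rcases hα'' with rfl | rfl | rfl | rfl <;>
      first
        | exact Commute.one_left _ | exact Commute.one_right _ | exact Commute.refl _
        | exact hat | exact hat.symm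
        | exact (Commute.refl _).mul_right hat | exact hat.symm.mul_right (Commute.refl _)
        | exact (Commute.refl _).mul_left hat.symm | exact hat.mul_left (Commute.refl _)
  have hEP : ∀ {q : G}, q ∈ E' → q ∈ (P : Subgroup G) := by
    rintro _ ⟨p, hp, rfl⟩
    have htu : t * u ∈ S t := ⟨(t, u), ⟨by simp, hu⟩, rfl⟩
    obtain ⟨α, hα, γ, hγ, rfl, -⟩ := hSt hp
    exact hg _ (h.mul_mem' hα hγ) (hcommE hp htu)
  obtain ⟨q₀, hq₀, α₀, hα₀, γ₀, hγ₀, e₀, hR₀⟩ :
      ∃ q ∈ E', ∃ α ∈ A, ∃ γ ∈ W, q = α * γ ∧ α ∉ R := by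
    by_contra hcon
    have hsub : E' ⊆ (fun q : G × G => q.1 * q.2) '' (({1, a} : Set G) ×ˢ (W : Set G)) := by
      intro q hq
      obtain ⟨α, hα, γ, hγ, e⟩ := h.split (hEP hq)
      have hαR : α ∈ R := by_contra fun hR => hcon ⟨q, hq, α, hα, γ, hγ, e, hR⟩
      obtain ⟨p, hp, rfl⟩ := hq
      have hpp : p * p = 1 := by
        obtain ⟨α', hα', γ', hγ', rfl, h4⟩ := hSt hp
        rw [h.sq hα' hγ', D.sq _ hγ', mul_one]
        rcases h4 with rfl | rfl | rfl | rfl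
        · exact one_mul 1
        · exact D.a_sq
        · exact D.big.dih.sq_of_not_mem ht htR
        · exact D.big.dih.sq_of_not_mem hα' fun hR => htR (by
            have := mul_mem (inv_mem D.big.dih.a_mem) hR
            rwa [inv_mul_cancel_left] at this)
      have h1 : α * α = 1 := by
        have h2' : α * α * (γ * γ) = 1 := by
          rw [← h.sq hα hγ, ← e, ← conj_mul', hpp, mul_one, mul_inv_cancel]
        rwa [D.sq γ hγ, mul_one] at h2'
      exact ⟨(α, γ), ⟨by simpa using D.big.R_sq hαR h1, hγ⟩, e.symm⟩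
    have := (Set.ncard_le_ncard hsub).trans (Set.ncard_image_le (Set.toFinite _))
    rw [hE'card, Set.ncard_prod, D.card_W, Set.ncard_pair D.big.a_ne.symm] at this
    omega
  have hsub : E' ⊆ S α₀ := by
    intro q hq
    obtain ⟨α, hα, γ, hγ, e⟩ := h.split (hEP hq)
    obtain ⟨p, hp, rfl⟩ := hq
    obtain ⟨p₀, hp₀, rfl⟩ := hq₀
    have hc := commute_conj g (hcommE hp₀ hp)
    change g * p₀ * g⁻¹ = _ at e₀
    change g * p * g⁻¹ = _ at e
    rw [e₀, e] at hc
    have := D.big.centralizer_cases hα₀ hR₀ hα ((h.commute_iff hα₀ hγ₀ hα hγ).1 hc).1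
    exact ⟨(α, γ), ⟨by simpa using this, hγ⟩, e.symm⟩
  have heq : E' = S α₀ :=
    Set.eq_of_subset_of_ncard_le hsub (by rw [hE'card, hcard hα₀ hR₀]) (Set.toFinite _)
  have hzS : z ∈ S α₀ := by
    rcases hz with e | e
    · exact ⟨(1, β), ⟨by simp, hβ⟩, by simp [e]⟩
    · exact ⟨(a, β), ⟨by simp, hβ⟩, e.symm⟩
  rw [← heq] at hzS
  obtain ⟨p, hp, e⟩ := hzS
  obtain ⟨α, -, γ, hγ, rfl, hα⟩ := hSt hp
  exact ⟨α, hα, γ, hγ, e⟩

theorem exists_cyc_refl {t : G} (ht : t ∈ A) (htR : t ∉ R) :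
    ∃ k, D.Cyc k ∧ ∃ u ∈ W, k * t * k⁻¹ = t * u := by
  set h := D.big.pair
  obtain ⟨n, hn, -⟩ := D.exists_cyc
  have htt := D.big.dih.sq_of_not_mem ht htR
  have hnP : ∀ {x : G}, x ∈ (P : Subgroup G) → n * x * n⁻¹ ∈ (P : Subgroup G) := fun hx =>
    (Subgroup.mem_normalizer_iff.1 hn.1 _).1 hx
  obtain ⟨x, hx, u, hu, e⟩ := h.split (hnP (h.leA ht))
  have hxR : x ∉ R := by
    intro hR
    have hxx : x * x = 1 := by
      have h2' : x * x * (u * u) = 1 := by
        rw [← h.sq hx hu, ← e, ← conj_mul', htt, mul_one, mul_inv_cancel]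
      rwa [D.sq u hu, mul_one] at h2'
    have hc : Commute t r := by
      have hr' : n * r * n⁻¹ ∈ (P : Subgroup G) := hnP (h.leA (D.big.dih.le D.big.r_mem))
      have hcx : Commute (n * r * n⁻¹) (x * u) := by
        refine Commute.mul_right ?_ (D.central hr' hu)
        rcases D.big.R_sq hR hxx with e1 | e1 <;> rw [e1]
        exacts [Commute.one_right _, D.big.a_commute_P hr']
      rw [← e] at hcx
      have := commute_conj n⁻¹ hcx.symm
      simpa [mul_assoc] using this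
    exact D.big.r_sq_ne (D.big.sq_of_commute ht htR D.big.r_mem hc)
  have hxt : x * t ∈ R := by
    have h1 := (D.big.dih.cases x hx).resolve_left hxR
    have h2 := (D.big.dih.cases t ht).resolve_left htR
    have e' : x * t = (x * s) * (t * s)⁻¹ := by
      rw [mul_inv_rev, inv_eq_of_mul_eq_one_right htt]; group
    rw [e']; exact mul_mem h1 (inv_mem h2)
  obtain ⟨i, hi⟩ := Subgroup.mem_zpowers_iff.1 (D.big.dih.gen ▸ hxt)
  have hx' : x = r ^ i * t := by rw [hi, mul_assoc, htt, mul_one]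
  -- a cyclic permutation moving `t` by an even power of `r`
  obtain ⟨k, hk, j, v, hv, ek⟩ : ∃ k, D.Cyc k ∧ ∃ j : ℤ, ∃ v ∈ W,
      k * t * k⁻¹ = r ^ (j + j) * t * v := by
    rcases Int.even_or_odd i with ⟨j, rfl⟩ | hodd
    · exact ⟨n, hn, j, u, hu, by rw [e, hx']⟩
    obtain ⟨α, hα, β, hβ, er⟩ := h.split (hnP (h.leA (D.big.dih.le D.big.r_mem)))
    have hαR : α ∈ R := by
      refine D.big.dih.mem_of_sq_ne hα fun e1 => D.big.r_sq_ne ?_
      have : n * (r * r) * n⁻¹ = 1 := by rw [conj_mul', er, h.sq hα hβ, e1, D.sq β hβ, one_mul]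
      exact conj_eq_one_iff.1 this
    obtain ⟨l, rfl⟩ := Subgroup.mem_zpowers_iff.1 (D.big.dih.gen ▸ hαR)
    have hl : Odd l := by
      rw [← Int.not_even_iff_odd]
      rintro ⟨j, rfl⟩
      obtain ⟨m, hm⟩ := D.big.r_pow_two
      have hord : orderOf (n * r * n⁻¹) = 2 ^ (m + 2) := by rw [orderOf_conj, hm]
      have h1 : (n * r * n⁻¹) ^ (2 ^ (m + 1)) = 1 := by
        rw [er, h.pow hα hβ, pow_succ', pow_mul β, pow_two β, D.sq β hβ, one_pow, mul_one,
          ← pow_succ', ← zpow_natCast, ← zpow_mul,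
          show (j + j) * ((2 ^ (m + 1) : ℕ) : ℤ) = (orderOf r : ℤ) * j by
            rw [hm]; push_cast; ring,
          zpow_mul, zpow_natCast, pow_orderOf_eq_one, one_zpow]
      have := orderOf_dvd_of_pow_eq_one h1
      rw [hord, Nat.pow_dvd_pow_iff_le_right (by norm_num)] at this
      omega
    obtain ⟨j, hj⟩ : Even (l * i + i) := (hl.mul hodd).add_odd hodd
    refine ⟨n * n, D.cyc_mul_self hn, j, β ^ i * (u * (n * u * n⁻¹)),
      mul_mem (zpow_mem hβ i) (mul_mem hu (D.stable n hn.1 u hu)), ?_⟩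
    have hr1 : Commute (r ^ i) β := (h.comm _ (zpow_mem (D.big.dih.le D.big.r_mem) i) β hβ)
    calc n * n * t * (n * n)⁻¹ = n * (n * t * n⁻¹) * n⁻¹ := by group
      _ = n * (r ^ i * t * u) * n⁻¹ := by rw [e, hx']
      _ = (n * r * n⁻¹) ^ i * (n * t * n⁻¹) * (n * u * n⁻¹) := by
          rw [conj_mul', conj_mul', conj_zpow]
      _ = (r ^ (l * i) * β ^ i) * (r ^ i * t * u) * (n * u * n⁻¹) := by
          rw [er, e, hx', (h.comm _ hα β hβ).mul_zpow, ← zpow_mul]
      _ = r ^ (l * i) * (β ^ i * (r ^ i * t)) * (u * (n * u * n⁻¹)) := by group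
      _ = r ^ (l * i) * ((r ^ i * t) * β ^ i) * (u * (n * u * n⁻¹)) := by
          rw [(h.comm (r ^ i * t) (hx' ▸ hx) (β ^ i) (zpow_mem hβ i)).eq]
      _ = r ^ (j + j) * t * (β ^ i * (u * (n * u * n⁻¹))) := by rw [← hj, zpow_add]; group
  refine ⟨r ^ (-j) * k, D.cyc_left hk (h.leA (zpow_mem (D.big.dih.le D.big.r_mem) _)), v, hv, ?_⟩
  have hinv : t * r ^ j = r ^ (-j) * t := by
    rw [← mul_inv_eq_iff_eq_mul, D.big.inv_all ht htR (zpow_mem D.big.r_mem j), zpow_neg]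
  calc r ^ (-j) * k * t * (r ^ (-j) * k)⁻¹
      = r ^ (-j) * (k * t * k⁻¹) * r ^ j := by group
    _ = r ^ (-j) * r ^ (j + j) * t * (v * r ^ j) := by rw [ek]; group
    _ = r ^ (-j) * r ^ (j + j) * (t * r ^ j) * v := by
        rw [← (h.comm _ (zpow_mem (D.big.dih.le D.big.r_mem) j) v hv).eq]; group
    _ = t * v := by rw [hinv]; group

/-- The classes on the coset of a reflection. -/
theorem refl_classes (h2 : ∀ N : Subgroup G, N.Normal → N.index ≠ 2) {t : G} (ht : t ∈ A)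
    (htR : t ∉ R) : ∃ u ∈ W, IsConj (t * u) a ∧
      ∀ w ∈ W, w ≠ u → IsConj (t * w) (a * w₁) := by
  set h := D.big.pair
  obtain ⟨k, hk, u, hu, ek⟩ := D.exists_cyc_refl ht htR
  set v := k * u * k⁻¹ with hv
  have hvW : v ∈ W := D.stable k hk.1 u hu
  have hkv : k * (t * v) * k⁻¹ = t * v := by
    rw [conj_mul', ek, mul_assoc]
    by_cases hu1 : u = 1
    · simp [hv, hu1]
    · rw [(hk.2 u hu hu1).2, ← mul_assoc u, D.sq u hu, one_mul]
  have hq : ∀ w ∈ W, w ≠ 1 → IsConj (t * v * w₁) (t * v * w) := by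
    intro w hw hw1
    rcases D.cyc_cover hk hw hw1 with rfl | rfl | rfl
    · exact IsConj.refl _
    · exact isConj_iff.2 ⟨k, by rw [conj_mul', hkv]⟩
    · refine isConj_iff.2 ⟨k * k, ?_⟩
      rw [show k * k * (t * v * w₁) * (k * k)⁻¹ = k * (k * (t * v * w₁) * k⁻¹) * k⁻¹ by group,
        conj_mul' k (t * v), hkv, conj_mul' k (t * v), hkv]
  obtain ⟨c, hcR, -, hc⟩ := D.big.exists_root
  have hat : ∀ {γ : G}, γ ∈ W → IsConj (t * γ) (a * t * γ) := fun {γ} hγ => isConj_iff.2 ⟨c, by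
    rw [conj_mul', hc t ht htR, (h.comm c (D.big.dih.le hcR) γ hγ).eq, mul_inv_cancel_right]⟩
  have hcls : ∀ {α γ X : G}, (α = 1 ∨ α = a ∨ α = t ∨ α = a * t) → γ ∈ W →
      IsConj (α * γ) X → (α * γ = γ ∨ α * γ = a * γ) ∨
        IsConj (t * v) X ∨ IsConj (t * v * w₁) X := by
    intro α γ X hα hγ hX
    have key : IsConj (t * γ) X → IsConj (t * v) X ∨ IsConj (t * v * w₁) X := by
      intro h'
      by_cases e : γ = v
      · exact .inl (e ▸ h')
      · refine .inr ((hq (v * γ) (mul_mem hvW hγ) fun e' => e ?_).trans ?_)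
        · calc γ = v * v * γ := by rw [D.sq v hvW, one_mul]
            _ = v := by rw [mul_assoc, e', mul_one]
        · rwa [show t * v * (v * γ) = t * (v * v) * γ by group, D.sq v hvW, mul_one]
    rcases hα with rfl | rfl | rfl | rfl
    · exact .inl (.inl (one_mul γ))
    · exact .inl (.inr rfl)
    · exact .inr (key hX)
    · exact .inr (key ((hat hγ).trans hX))
  obtain ⟨nBA, nAC, nBC⟩ := D.not_conj
  obtain ⟨g, hg, hz1, β, hβ, hz⟩ := D.move_refl h2 ht htR hvW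
  have hA : IsConj (t * v) a ∨ IsConj (t * v * w₁) a := by
    by_contra hn
    obtain ⟨α, hα, γ, hγ, e⟩ := D.onto_center ht htR hvW hg (one_mem W) (.inr (mul_one a).symm)
    have he1 : α * γ ≠ 1 := fun e1 => D.big.a_ne (by rw [← e, e1, mul_one, mul_inv_cancel])
    have ha : α * γ = a := by
      rcases D.central_class hγ ((hcls hα hγ (isConj_iff.2 ⟨g, e⟩)).resolve_right hn) he1 with
        ⟨e', -⟩ | ⟨-, -, hc'⟩ | ⟨-, -, hc'⟩
      · exact e'
      · exact absurd (hc'.symm.trans (isConj_iff.2 ⟨g, e⟩)) nBA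
      · exact absurd (hc'.symm.trans (isConj_iff.2 ⟨g, e⟩)).symm nAC
    rw [ha] at e
    have hzy : IsConj (t * v) (g * (t * v) * g⁻¹) := isConj_iff.2 ⟨g, rfl⟩
    have hay : IsConj (g * (t * v) * g⁻¹) (a * (g * (t * v) * g⁻¹)) := by
      refine hzy.symm.trans ((hat hvW).trans (isConj_iff.2 ⟨g, ?_⟩))
      rw [mul_assoc a, conj_mul', e]
    rcases D.central_class hβ hz hz1 with ⟨e', -⟩ | ⟨e', hb, hc'⟩ | ⟨e', hb, hc'⟩
    · exact hn (.inl (e' ▸ hzy))
    · rw [e'] at hay hc'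
      exact nBC (hc'.symm.trans (hay.trans (D.conj_w₁ hβ hb).2.symm))
    · rw [e'] at hay hc'
      rw [← mul_assoc a a, D.a_sq, one_mul] at hay
      exact nBC ((D.conj_w₁ hβ hb).1.trans (hay.symm.trans hc'))
  have hC : IsConj (t * v) (a * w₁) ∨ IsConj (t * v * w₁) (a * w₁) := by
    by_contra hn
    set Zs := Subgroup.zpowers a ⊔ W with hZs
    set K := Zs.map (MulAut.conj g).toMonoidHom with hK
    have hmemZ : ∀ {z γ : G}, γ ∈ W → z = γ ∨ z = a * γ → z ∈ Zs := by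
      rintro z γ hγ (rfl | rfl)
      · exact Subgroup.mem_sup_right hγ
      · exact Subgroup.mul_mem_sup (Subgroup.mem_zpowers a) hγ
    have hK1 : ∀ w ∈ W, w ≠ 1 → a * w ∈ K := by
      intro w hw hw1
      obtain ⟨α, hα, γ, hγ, e⟩ := D.onto_center ht htR hvW hg hw (.inr rfl)
      exact ⟨α * γ, hmemZ hγ ((hcls hα hγ ((isConj_iff.2 ⟨g, e⟩).trans
        (D.conj_w₁ hw hw1).2.symm)).resolve_right hn), e⟩
    have haK : a ∈ K := by
      have h3 := mul_mem (mul_mem (hK1 _ D.mem₁ D.ne₁) (hK1 _ D.mem₂ D.ne₂))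
        (hK1 _ D.w₃_mem D.w₃_ne)
      have c1 := (D.big.a_commute_P (h.leB D.mem₁)).eq
      rwa [show a * w₁ * (a * w₂) = w₁ * w₂ by
          calc a * w₁ * (a * w₂) = a * (w₁ * a) * w₂ := by group
            _ = a * (a * w₁) * w₂ := by rw [c1]
            _ = (a * a) * (w₁ * w₂) := by group
            _ = w₁ * w₂ := by rw [D.a_sq, one_mul],
        ← mul_assoc, (D.big.a_commute_P (h.leB D.w₃_mem)).eq, mul_assoc, D.sq _ D.w₃_mem,
        mul_one] at h3
    have hZK : Zs ≤ K := by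
      refine sup_le (Subgroup.zpowers_le.2 haK) fun w hw => ?_
      by_cases hw1 : w = 1
      · rw [hw1]; exact one_mem K
      · have := mul_mem haK (hK1 w hw hw1)
        rwa [← mul_assoc, D.a_sq, one_mul] at this
    obtain ⟨y, hy, e⟩ := hZK (hmemZ hβ hz)
    have hy' : t * v ∈ Zs :=
      (show y = t * v from (MulAut.conj g).injective e) ▸ hy
    have hcen : Zs ≤ Subgroup.centralizer ((P : Subgroup G) : Set G) :=
      sup_le (Subgroup.zpowers_le.2 (Subgroup.mem_centralizer_iff.2 fun p hp =>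
          (D.big.a_commute_P hp).eq))
        fun w hw => Subgroup.mem_centralizer_iff.2 fun p hp => (D.central hp hw).eq
    have hctv : Commute (r * 1) (t * v) :=
      Subgroup.mem_centralizer_iff.1 (hcen hy') _
        (h.mul_mem' (D.big.dih.le D.big.r_mem) (one_mem W))
    exact D.big.r_sq_ne (D.big.sq_of_commute ht htR D.big.r_mem
      ((h.commute_iff (D.big.dih.le D.big.r_mem) (one_mem W) ht hvW).1 hctv).1.symm)
  refine ⟨v, hvW, ?_⟩
  rcases hA with hA | hA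
  · refine ⟨hA, fun w hw hwv => ?_⟩
    have hCw : IsConj (t * v * w₁) (a * w₁) :=
      hC.resolve_left fun e => nAC (hA.symm.trans e)
    have hvw : v * w ≠ 1 := fun e' => hwv (by
      calc w = v * v * w := by rw [D.sq v hvW, one_mul]
        _ = v := by rw [mul_assoc, e', mul_one])
    have := (hq _ (mul_mem hvW hw) hvw).symm.trans hCw
    rwa [show t * v * (v * w) = t * (v * v) * w by group, D.sq v hvW, mul_one] at this
  · exfalso
    have hCv : IsConj (t * v) (a * w₁) := hC.resolve_right fun e => nAC (hA.symm.trans e)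
    obtain ⟨g, hg, hz1, β, hβ, hz⟩ := D.move_refl h2 ht htR (mul_mem hvW D.mem₁)
    have hga : g * (t * (v * w₁)) * g⁻¹ = a := by
      have hzy : IsConj (g * (t * (v * w₁)) * g⁻¹) a :=
        (isConj_iff.2 ⟨g, rfl⟩ : IsConj (t * (v * w₁)) _).symm.trans (by rwa [← mul_assoc])
      rcases D.central_class hβ hz hz1 with ⟨e', -⟩ | ⟨e', -, hc'⟩ | ⟨e', -, hc'⟩
      · exact e'
      · exact absurd (hc'.symm.trans hzy) nBA
      · exact absurd (hc'.symm.trans hzy).symm nAC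
    set K := W.map (MulAut.conj g).toMonoidHom with hK
    have hWK : W ≤ K := by
      intro w hw
      by_cases hw1 : w = 1
      · rw [hw1]; exact one_mem K
      obtain ⟨α, hα, γ, hγ, e⟩ := D.onto_center ht htR (mul_mem hvW D.mem₁) hg hw (.inl rfl)
      have hX : IsConj (α * γ) w₁ :=
        (isConj_iff.2 ⟨g, e⟩).trans (D.conj_w₁ hw hw1).1.symm
      have he1 : α * γ ≠ 1 := fun e1 => hw1 (by rw [← e, e1, mul_one, mul_inv_cancel])
      rcases hcls hα hγ hX with hz' | hX' | hX'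
      · rcases D.central_class hγ hz' he1 with ⟨e', -⟩ | ⟨e', -, -⟩ | ⟨e', -, hc'⟩
        · exact absurd (e' ▸ hX).symm nBA
        · exact ⟨γ, hγ, by rw [e'] at e; exact e⟩
        · exact absurd (hX.symm.trans hc') nBC
      · exact absurd (hX'.symm.trans hCv) nBC
      · exact absurd (hX'.symm.trans hA) nBA
    have hKW : K = W := (Subgroup.eq_of_le_of_card_ge hWK (by
      rw [hK, Subgroup.card_map_of_injective (MulEquiv.injective _)])).symm
    have hc12 : w₁ * (w₁ * w₂) = w₂ := by rw [← mul_assoc, D.sq _ D.mem₁, one_mul]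
    have hgw : g * (w₁ * w₂) * g⁻¹ ∈ W := hKW ▸ ⟨_, D.w₃_mem, rfl⟩
    have hgw1 : g * (w₁ * w₂) * g⁻¹ ≠ 1 := fun e => D.w₃_ne (conj_eq_one_iff.1 e)
    refine nAC ?_
    refine (((hq w₂ D.mem₂ D.ne₂).symm.trans hA).symm.trans
      (isConj_iff.2 ⟨g, ?_⟩)).trans (D.conj_w₁ hgw hgw1).2.symm
    rw [show t * v * w₂ = t * (v * w₁) * (w₁ * w₂) by
        calc t * v * w₂ = t * v * (w₁ * (w₁ * w₂)) := by rw [hc12]
          _ = t * (v * w₁) * (w₁ * w₂) := by group,
      conj_mul', hga]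

end FourData

end Cfsg.Agent.ProdFus.Split
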